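import Cfsg.Agent.KFacts.PSpFourThree.Classes
import Cfsg.Agent.KFacts.PSpFourThree.MainOut
import Cfsg.Agent.OddHalf.D6.QThree.RefOf
import Cfsg.Agent.OddHalf.D6.QThree.NIB.Two

-- merged: Cfsg.Agent.KFacts.PSpFourThree.Sp
section

/-!
# `PSp₄(3)`: the facts `FactsOut.Sp` (helper143, on helper931's model of `C(z)`)

`sp_facts : FactsOut.Sp z R`; `exists_sp_aut`: for every group isomorphic to `PSp 2 F`, `|F| = 3`.
-/

set_option autoImplicit false
set_option linter.style.haveILetI false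
set_option maxRecDepth 100000

namespace Cfsg.Agent.KFacts.PSpFourThree

open Matrix Subgroup Cfsg
open Cfsg.Agent.Lib.FieldThree (F3)
open Cfsg.Agent.SmallSimple.S1000.Order25920PSp (Mat Sp π π_mul π_one π_eq m1 m2 m3 m4)
open Cfsg.Agent.OddHalf.Small.PSp43 (πh πh_apply comm_or eq_or_of_π_eq)
open Cfsg.Agent.OddHalf.D6.QThree

namespace PE

/-! ### checks -/

theorem zR1_check : allPE (fun p => or (not (inR p)) (or (not ((p.mul p).beq one)) (or (p.beqs one) (p.beqs zz)))) = true := by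
  decide +kernel

theorem p2_check : allPE (fun p => or (not ((p.mul p).beq one)) (or (not (((p.mul zz).mul (p.mul zz)).beq one))
    (or (p.beqs one) (p.beqs zz)))) = true := by
  decide +kernel

theorem rr_check : allG (fun x => allG (fun y => or (not (and (inQ x) (inQ y)))
    (or ((x.mul y).beq (y.mul x)) ((x.mul y).beq (y.mul x).neg))) slL) slL = true := by
  decide +kernel

theorem dd_check : allG (fun x => allG (fun y => inQ (((x.mul y).mul x.inv).mul y.inv)) slL) slL = true := by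
  decide +kernel

/-- the element `d` -/
def dE : PE := ⟨tt, tt, false⟩
/-- the element `e` -/
def eE : PE := ⟨tt, tt2, false⟩

theorem ok_dE : dE.Ok := ⟨by decide, by decide⟩
theorem ok_eE : eE.Ok := ⟨by decide, by decide⟩

theorem p4_check : allPE (fun r => or (not (inR r)) (or (or (r.beqs one) (r.beqs zz))
    (anyG (fun c => and (cmt (cj c r) r) (and (not ((cj c r).beqs r)) (not ((cj c r).beqs (r.mul zz)))))
      [vv, dE, eE]))) = true := by
  decide +kernel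

theorem cd_check : allPE (fun p => or p.s (or (not (inR ((cj vv p).mul p.inv)))
    (or (inR p) (or (inR (p.mul dE.inv)) (inR (p.mul dE)))))) = true := by
  decide +kernel

theorem ce_check : allPE (fun p => or p.s (or (not (inR ((cj vv p).mul p)))
    (or (inR p) (or (inR (p.mul eE.inv)) (inR (p.mul eE)))))) = true := by
  decide +kernel

/-- representatives of `D / R` -/
def WL : List PE := [one, dE, dE.inv, eE, eE.inv, dE.mul eE, dE.mul eE.inv, dE.inv.mul eE, dE.inv.mul eE.inv]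

theorem gen2_check : allPE (fun p => or p.s (anyG (fun w => inR (w.inv.mul p)) WL)) = true := by
  decide +kernel

/-- conjugating elements -/
def C6 : List M2 := [M2.one, q2, tt, tt2, q2.mul tt, q2.mul tt2]

/-- the frame -/
def z2 : PE := ⟨q1, q1.neg, true⟩
def z3 : PE := ⟨q2, q2.neg, true⟩
def z4 : PE := ⟨q1.mul q2, (q1.mul q2).neg, true⟩

theorem ok_z2 : z2.Ok := ⟨by decide, by decide⟩
theorem ok_z3 : z3.Ok := ⟨by decide, by decide⟩
theorem ok_z4 : z4.Ok := ⟨by decide, by decide⟩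

theorem p3_check : allPE (fun r => or (not (inR r)) (or (not (isOne (r.mul r))) (or (or (r.beqs one) (r.beqs zz))
    (anyG (fun a => anyG (fun b => (cj ⟨a, b, false⟩ r).beqs (vv.mul z2)) C6) C6)))) = true := by
  decide +kernel

theorem C6_det : ∀ x ∈ C6, x.det = 1 := by decide +kernel

/-! ### squares of the elements conjugate to `z` -/

theorem sq_of_conj {p : PE} (hp : p.Ok) {k : PSp 2 F3} (h : k * z * k⁻¹ = p.el) : p.mul p = one := by
  obtain ⟨X, rfl⟩ := QuotientGroup.mk_surjective k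
  have h' : π X * z = p.el * π X := by rw [← h]; exact (inv_mul_cancel_right _ _).symm
  rw [z, el_zz, el_eq hp, ← π_mul, ← π_mul] at h'
  have e3 : (m3 : Mat) * m3 = 1 := by decide +kernel
  have hX : (X : Mat) * ((X⁻¹ : Sp) : Mat) = 1 := congrArg Subtype.val (mul_inv_cancel X)
  have key : p.mat * p.mat * (X : Mat) = X := by
    rcases eq_or_of_π_eq h' with e | e
    · have e' : (X : Mat) * m3 = p.mat * X := e
      calc p.mat * p.mat * (X : Mat) = p.mat * (p.mat * X) := by rw [mul_assoc]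
        _ = p.mat * X * m3 := by rw [mul_assoc p.mat (X : Mat) (m3 : Mat), e']
        _ = X * m3 * m3 := by rw [← e']
        _ = X := by rw [mul_assoc, e3, mul_one]
    · have e' : (X : Mat) * m3 = -(p.mat * X) := e
      have e2 : p.mat * (X : Mat) = -((X : Mat) * m3) := by rw [e', neg_neg]
      calc p.mat * p.mat * (X : Mat) = p.mat * (p.mat * X) := by rw [mul_assoc]
        _ = -(p.mat * X * m3) := by rw [e2, mul_neg, ← mul_assoc, e2]
        _ = X * m3 * m3 := by rw [e2, neg_mul, neg_neg]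
        _ = X := by rw [mul_assoc, e3, mul_one]
  have h1 : p.mat * p.mat = 1 := by
    calc p.mat * p.mat = p.mat * p.mat * ((X : Mat) * ((X⁻¹ : Sp) : Mat)) := by rw [hX, mul_one]
      _ = (p.mat * p.mat * (X : Mat)) * ((X⁻¹ : Sp) : Mat) := by rw [← mul_assoc]
      _ = 1 := by rw [key, hX]
  apply mat_inj _ (hp.mul hp) ok_one
  rw [mat_mul, h1, mat_one]

theorem zR1 (k : PSp 2 F3) (h : k * z * k⁻¹ ∈ R) : k * z * k⁻¹ = z := by
  obtain ⟨p, hp, hR, hk⟩ := h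
  have h1 := sq_of_conj hp hk
  have c := allPE_spec zR1_check hp
  rw [hR, h1] at c
  have c' : (p.beqs one || p.beqs zz) = true := c
  rw [Bool.or_eq_true] at c'
  rcases c' with c' | c'
  · exfalso
    have h2 : p.el = 1 := (el_eq_one hp).2 c'
    rw [h2] at hk
    exact z_ne (conj_eq_one_iff.1 hk)
  · rw [hk, eq_el hp ok_zz c']; rfl

theorem p2 (k k' : PSp 2 F3) (h1 : (k * z * k⁻¹) * z = z * (k * z * k⁻¹)) (h2 : k * z * k⁻¹ ≠ z) :
    k' * z * k'⁻¹ ≠ k * z * k⁻¹ * z := by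
  intro h3
  obtain ⟨p, hp, hk⟩ := exists_el h1
  have h4 : (p.mul zz).el = k' * z * k'⁻¹ := by
    rw [el_mul hp ok_zz, h3, hk]; rfl
  have h5 := sq_of_conj hp hk
  have h6 := sq_of_conj (hp.mul ok_zz) h4.symm
  have c := allPE_spec p2_check hp
  rw [h5, h6] at c
  have c' : (p.beqs one || p.beqs zz) = true := c
  rw [Bool.or_eq_true] at c'
  rcases c' with c' | c'
  · have h7 : p.el = 1 := (el_eq_one hp).2 c'
    rw [h7] at hk
    exact z_ne (conj_eq_one_iff.1 hk)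
  · apply h2
    rw [hk, eq_el hp ok_zz c']; rfl

/-! ### `R' ≤ ⟨z⟩` -/

theorem Q_comm {x y : M2} (hx : x.det = 1) (hy : y.det = 1) (h1 : inQ x = true) (h2 : inQ y = true) :
    x.mul y = y.mul x ∨ x.mul y = (y.mul x).neg := by
  have c := (allG_iff _ _).1 ((allG_iff _ _).1 rr_check x (mem_slL hx)) y (mem_slL hy)
  rw [h1, h2] at c
  have c' : ((x.mul y).beq (y.mul x) || (x.mul y).beq (y.mul x).neg) = true := c
  rw [Bool.or_eq_true, M2.beq_iff, M2.beq_iff] at c'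
  exact c'

theorem rr (a : PSp 2 F3) (ha : a ∈ R) (b : PSp 2 F3) (hb : b ∈ R) :
    a * b * a⁻¹ * b⁻¹ = 1 ∨ a * b * a⁻¹ * b⁻¹ = z := by
  have hbz := R_comm hb
  have haz := R_comm ha
  obtain ⟨p, hp, h1, rfl⟩ := ha
  obtain ⟨q, hq, h2, rfl⟩ := hb
  have key : p.el * q.el = q.el * p.el ∨ p.el * q.el = q.el * p.el * z := by
    have hz : z = zz.el := rfl
    rw [hz, ← el_mul hp hq, ← el_mul hq hp, ← el_mul (hq.mul hp) ok_zz, el_eq_iff (hp.mul hq) (hq.mul hp),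
      el_eq_iff (hp.mul hq) ((hq.mul hp).mul ok_zz)]
    unfold beqs
    rw [Bool.or_eq_true, Bool.or_eq_true, beq_iff, beq_iff, beq_iff, beq_iff]
    rw [inR_iff] at h1 h2
    obtain ⟨x, y, s⟩ := p
    obtain ⟨x', y', s'⟩ := q
    obtain ⟨h11, h12, h13⟩ := h1
    obtain ⟨h21, h22, h23⟩ := h2
    have hs : s = false := h13
    have hs' : s' = false := h23
    subst hs hs'
    have e1 : (PE.mk x y false).mul (PE.mk x' y' false) = ⟨x.mul x', y.mul y', false⟩ := rfl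
    have e2 : (PE.mk x' y' false).mul (PE.mk x y false) = ⟨x'.mul x, y'.mul y, false⟩ := rfl
    have e3 : (PE.mk (x'.mul x) (y'.mul y) false).mul zz = ⟨x'.mul x, (y'.mul y).neg, false⟩ := by
      show PE.mk ((x'.mul x).mul M2.one) ((y'.mul y).mul M2.one.neg) false = _
      rw [M2_mul_one, M2_mul_neg_one]
    rw [e1, e2, e3]
    rcases Q_comm hp.1 hq.1 h11 h21 with c1 | c1 <;> rcases Q_comm hp.2 hq.2 h12 h22 with c2 | c2
    · left; left; rw [c1, c2]
    · right; left; rw [c1, c2]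
    · right; right
      rw [c1, c2]
      show _ = PE.mk (x'.mul x).neg ((y'.mul y).neg).neg false
      rw [M2_neg_neg]
    · left; right; rw [c1, c2]; rfl
  rcases key with h3 | h3
  · left; rw [h3, mul_inv_cancel_right, mul_inv_cancel]
  · right
    have c1 : Commute z p.el := haz.symm
    have c2 : Commute z q.el := hbz.symm
    calc p.el * q.el * p.el⁻¹ * q.el⁻¹ = q.el * p.el * z * p.el⁻¹ * q.el⁻¹ := by rw [h3]
      _ = z * (q.el * p.el) * p.el⁻¹ * q.el⁻¹ := by rw [(c2.mul_right c1).eq]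
      _ = z := by group

/-! ### `D` -/

/-- the elements without swap -/
noncomputable def DS : Subgroup (PSp 2 F3) where
  carrier := {g | ∃ p : PE, p.Ok ∧ p.s = false ∧ g = p.el}
  one_mem' := ⟨one, ok_one, rfl, el_one.symm⟩
  mul_mem' := by
    rintro _ _ ⟨p, hp, h1, rfl⟩ ⟨q, hq, h2, rfl⟩
    refine ⟨p.mul q, hp.mul hq, ?_, (el_mul hp hq).symm⟩
    obtain ⟨x, y, s⟩ := p
    have hs : s = false := h1
    subst hs
    exact h2
  inv_mem' := by
    rintro _ ⟨p, hp, h1, rfl⟩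
    refine ⟨p.inv, hp.inv, ?_, (el_inv hp).symm⟩
    obtain ⟨x, y, s⟩ := p
    have hs : s = false := h1
    subst hs
    rfl

theorem DD_le : DD ≤ DS := by
  rw [DD, closure_le]
  rintro g ⟨hg, ho⟩
  obtain ⟨p, hp, rfl⟩ := exists_el hg
  have h1 : p.el * p.el ∈ DS := by
    refine ⟨p.mul p, hp.mul hp, ?_, (el_mul hp hp).symm⟩
    obtain ⟨x, y, s⟩ := p
    cases s <;> rfl
  obtain ⟨m, hm⟩ := ho
  have h3 : p.el = (p.el * p.el) ^ (m + 1) := by
    have h4 : p.el ^ (2 * m + 1) = 1 := by rw [← hm]; exact pow_orderOf_eq_one _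
    calc p.el = p.el ^ (2 * m + 1) * p.el := by rw [h4, one_mul]
      _ = p.el ^ (2 * (m + 1)) := by rw [← pow_succ]; congr 1
      _ = (p.el * p.el) ^ (m + 1) := by rw [pow_mul, pow_two]
  rw [SetLike.mem_coe, h3]
  exact pow_mem h1 _

theorem mem_DD_iff {p : PE} (hp : p.Ok) : p.el ∈ DD ↔ p.s = false := by
  constructor
  · intro h
    obtain ⟨q, hq, hs, he⟩ := DD_le h
    have h3 := (el_eq_iff hp hq).1 he
    unfold beqs at h3
    rw [Bool.or_eq_true, beq_iff, beq_iff] at h3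
    rcases h3 with rfl | rfl
    · exact hs
    · exact hs
  · exact mem_DD hp

theorem dd (a : PSp 2 F3) (ha : a ∈ DD) (b : PSp 2 F3) (hb : b ∈ DD) : a * b * a⁻¹ * b⁻¹ ∈ R := by
  obtain ⟨p, hp, h1, rfl⟩ := DD_le ha
  obtain ⟨q, hq, h2, rfl⟩ := DD_le hb
  rw [← el_mul hp hq, ← el_inv hp, ← el_inv hq, ← el_mul (hp.mul hq) hp.inv,
    ← el_mul ((hp.mul hq).mul hp.inv) hq.inv, mem_R (((hp.mul hq).mul hp.inv).mul hq.inv), inR_iff]
  obtain ⟨x, y, s⟩ := p
  obtain ⟨x', y', s'⟩ := q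
  have hs : s = false := h1
  have hs' : s' = false := h2
  subst hs hs'
  refine ⟨?_, ?_, rfl⟩
  · exact (allG_iff _ _).1 ((allG_iff _ _).1 dd_check x (mem_slL hp.1)) x' (mem_slL hq.1)
  · exact (allG_iff _ _).1 ((allG_iff _ _).1 dd_check y (mem_slL hp.2)) y' (mem_slL hq.2)

/-! ### `p4` -/

theorem p4 (r : PSp 2 F3) (hr : r ∈ R) (hr1 : r ≠ 1) (hrz : r ≠ z) : ∃ p, p * z = z * p ∧
    (p * r * p⁻¹) * r = r * (p * r * p⁻¹) ∧ p * r * p⁻¹ ≠ r ∧ p * r * p⁻¹ ≠ r * z := by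
  obtain ⟨q, hq, hR, rfl⟩ := hr
  have c := allPE_spec p4_check hq
  have n1 : q.beqs one = false := by
    rw [Bool.eq_false_iff]
    intro h
    exact hr1 ((el_eq_one hq).2 h)
  have nz : q.beqs zz = false := by
    rw [Bool.eq_false_iff]
    intro h
    exact hrz (eq_el hq ok_zz h)
  rw [hR, n1, nz] at c
  have c' : anyG (fun c => and (cmt (cj c q) q) (and (not ((cj c q).beqs q)) (not ((cj c q).beqs (q.mul zz)))))
      [vv, dE, eE] = true := c
  rw [anyG_iff] at c'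
  obtain ⟨w, hw, h3⟩ := c'
  have hwO : w.Ok := by
    simp only [List.mem_cons, List.not_mem_nil, or_false] at hw
    rcases hw with rfl | rfl | rfl
    · exact ok_vv
    · exact ok_dE
    · exact ok_eE
  rw [Bool.and_eq_true, Bool.and_eq_true, Bool.not_eq_true', Bool.not_eq_true'] at h3
  obtain ⟨h4, h5, h6⟩ := h3
  refine ⟨w.el, z_comm hwO, ?_, ?_, ?_⟩
  · rw [← el_cj hwO hq]
    exact (comm_iff (ok_cj hwO hq) hq).2 h4
  · rw [← el_cj hwO hq]
    intro h
    rw [(el_eq_iff (ok_cj hwO hq) hq).1 h] at h5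
    exact Bool.noConfusion h5
  · have hz : z = zz.el := rfl
    rw [← el_cj hwO hq, hz, ← el_mul hq ok_zz]
    intro h
    rw [(el_eq_iff (ok_cj hwO hq) (hq.mul ok_zz)).1 h] at h6
    exact Bool.noConfusion h6

/-! ### `delta` -/

theorem delta : ∃ v d e : PSp 2 F3, v * v = 1 ∧ v * z = z * v ∧ v ∉ DD ∧ (∀ g, g * z = z * g → g ∈ DD ∨ v * g ∈ DD) ∧
    d ∈ DD ∧ e ∈ DD ∧ d ∉ R ∧ e ∉ R ∧ v * d * v⁻¹ * d⁻¹ ∈ R ∧ v * e * v⁻¹ * e ∈ R ∧
    (∀ x ∈ DD, v * x * v⁻¹ * x⁻¹ ∈ R → x ∈ R ∨ x * d⁻¹ ∈ R ∨ x * d ∈ R) ∧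
    (∀ x ∈ DD, v * x * v⁻¹ * x ∈ R → x ∈ R ∨ x * e⁻¹ ∈ R ∨ x * e ∈ R) ∧
    DD ≤ closure ({d, e} ∪ (R : Set (PSp 2 F3))) := by
  refine ⟨vv.el, dE.el, eE.el, ?_, z_comm ok_vv, ?_, ?_, mem_DD ok_dE rfl, mem_DD ok_eE rfl, ?_, ?_, ?_, ?_, ?_, ?_, ?_⟩
  · rw [← el_mul ok_vv ok_vv, el_eq_one (ok_vv.mul ok_vv)]
    decide
  · rw [mem_DD_iff ok_vv]
    exact Bool.noConfusion
  · intro g hg
    obtain ⟨p, hp, rfl⟩ := exists_el hg
    cases hs : p.s
    · left; exact mem_DD hp hs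
    · right
      rw [← el_mul ok_vv hp]
      refine mem_DD (ok_vv.mul hp) ?_
      show (!p.s) = false
      rw [hs]; rfl
  · rw [mem_R ok_dE]; decide
  · rw [mem_R ok_eE]; decide
  · rw [← el_cj ok_vv ok_dE, ← el_inv ok_dE, ← el_mul (ok_cj ok_vv ok_dE) ok_dE.inv,
      mem_R ((ok_cj ok_vv ok_dE).mul ok_dE.inv)]
    decide +kernel
  · rw [← el_cj ok_vv ok_eE, ← el_mul (ok_cj ok_vv ok_eE) ok_eE, mem_R ((ok_cj ok_vv ok_eE).mul ok_eE)]
    decide +kernel
  · intro x hx h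
    obtain ⟨p, hp, hs, rfl⟩ := DD_le hx
    rw [← el_cj ok_vv hp, ← el_inv hp, ← el_mul (ok_cj ok_vv hp) hp.inv, mem_R ((ok_cj ok_vv hp).mul hp.inv)] at h
    have c := allPE_spec cd_check hp
    rw [hs, h] at c
    have c' : (inR p || (inR (p.mul dE.inv) || inR (p.mul dE))) = true := c
    rw [Bool.or_eq_true, Bool.or_eq_true, ← mem_R hp, ← mem_R (hp.mul ok_dE.inv), ← mem_R (hp.mul ok_dE),
      el_mul hp ok_dE.inv, el_mul hp ok_dE, el_inv ok_dE] at c'
    exact c'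
  · intro x hx h
    obtain ⟨p, hp, hs, rfl⟩ := DD_le hx
    rw [← el_cj ok_vv hp, ← el_mul (ok_cj ok_vv hp) hp, mem_R ((ok_cj ok_vv hp).mul hp)] at h
    have c := allPE_spec ce_check hp
    rw [hs, h] at c
    have c' : (inR p || (inR (p.mul eE.inv) || inR (p.mul eE))) = true := c
    rw [Bool.or_eq_true, Bool.or_eq_true, ← mem_R hp, ← mem_R (hp.mul ok_eE.inv), ← mem_R (hp.mul ok_eE),
      el_mul hp ok_eE.inv, el_mul hp ok_eE, el_inv ok_eE] at c'
    exact c'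
  · intro x hx
    obtain ⟨p, hp, hs, rfl⟩ := DD_le hx
    set C := closure (({dE.el, eE.el} : Set (PSp 2 F3)) ∪ (R : Set (PSp 2 F3))) with hC
    have hd : dE.el ∈ C := subset_closure (Or.inl (Or.inl rfl))
    have he : eE.el ∈ C := subset_closure (Or.inl (Or.inr rfl))
    have c := allPE_spec gen2_check hp
    rw [hs] at c
    have c' : anyG (fun w => inR (w.inv.mul p)) WL = true := c
    rw [anyG_iff] at c'
    obtain ⟨w, hw, h3⟩ := c'
    have key : w.Ok ∧ w.el ∈ C := by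
      simp only [WL, List.mem_cons, List.not_mem_nil, or_false] at hw
      rcases hw with rfl | rfl | rfl | rfl | rfl | rfl | rfl | rfl | rfl
      · exact ⟨ok_one, by rw [el_one]; exact one_mem _⟩
      · exact ⟨ok_dE, hd⟩
      · exact ⟨ok_dE.inv, by rw [el_inv ok_dE]; exact inv_mem hd⟩
      · exact ⟨ok_eE, he⟩
      · exact ⟨ok_eE.inv, by rw [el_inv ok_eE]; exact inv_mem he⟩
      · exact ⟨ok_dE.mul ok_eE, by rw [el_mul ok_dE ok_eE]; exact mul_mem hd he⟩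
      · exact ⟨ok_dE.mul ok_eE.inv, by rw [el_mul ok_dE ok_eE.inv, el_inv ok_eE]; exact mul_mem hd (inv_mem he)⟩
      · exact ⟨ok_dE.inv.mul ok_eE, by rw [el_mul ok_dE.inv ok_eE, el_inv ok_dE]; exact mul_mem (inv_mem hd) he⟩
      · exact ⟨ok_dE.inv.mul ok_eE.inv, by
          rw [el_mul ok_dE.inv ok_eE.inv, el_inv ok_dE, el_inv ok_eE]; exact mul_mem (inv_mem hd) (inv_mem he)⟩
    have h4 : (w.inv.mul p).el ∈ C := subset_closure (Or.inr ((mem_R (key.1.inv.mul hp)).2 h3))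
    rw [el_mul key.1.inv hp, el_inv key.1] at h4
    have h5 := mul_mem key.2 h4
    rwa [mul_inv_cancel_left] at h5

/-! ### the frame -/

/-- the matrix `c₃` -/
noncomputable def M3 : Sp := ⟨Cfsg.Agent.SmallSimple.S1000.Order25920PSp.mat
  ![![.i, .m, .o, .m], ![.i, .o, .m, .m], ![.o, .i, .m, .m], ![.i, .m, .i, .o]], by
    rw [SymplecticGroup.mem_iff]; decide +kernel⟩

/-- the matrix `c₄` -/
noncomputable def M4 : Sp := ⟨Cfsg.Agent.SmallSimple.S1000.Order25920PSp.mat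
  ![![.m, .m, .o, .i], ![.i, .o, .i, .m], ![.o, .m, .i, .m], ![.m, .m, .i, .o]], by
    rw [SymplecticGroup.mem_iff]; decide +kernel⟩

theorem c3_z : π M3 * z = z3.el * π M3 := by
  rw [z, el_zz, el_eq ok_z3, ← π_mul, ← π_mul]
  refine π_eq (Or.inr ?_)
  show (M3 : Mat) * m3 = -((bmm z3.x z3.y * sw true) * M3)
  rw [st]
  decide +kernel

theorem c4_z : π M4 * z = z4.el * π M4 := by
  rw [z, el_zz, el_eq ok_z4, ← π_mul, ← π_mul]
  refine π_eq (Or.inr ?_)
  show (M4 : Mat) * m3 = -((bmm z4.x z4.y * sw true) * M4)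
  rw [st]
  decide +kernel

/-- `z₁ z₂` -/
def w12 : PE := ⟨q1.neg, q1, false⟩

theorem ok_w12 : w12.Ok := ⟨by decide, by decide⟩

theorem w12_eq : vv.el * z2.el = w12.el := by
  rw [← el_mul ok_vv ok_z2]
  exact eq_el (ok_vv.mul ok_z2) ok_w12 (by decide)

theorem c3_w : π M3 * w12.el = w12.el * π M3 := by
  rw [el_eq ok_w12, ← π_mul, ← π_mul]
  refine π_eq (Or.inr ?_)
  show (M3 : Mat) * (bmm w12.x w12.y * sw false) = -((bmm w12.x w12.y * sw false) * M3)
  rw [sf, mul_one]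
  decide +kernel

theorem c4_w : π M4 * w12.el = w12.el * π M4 := by
  rw [el_eq ok_w12, ← π_mul, ← π_mul]
  refine π_eq (Or.inr ?_)
  show (M4 : Mat) * (bmm w12.x w12.y * sw false) = -((bmm w12.x w12.y * sw false) * M4)
  rw [sf, mul_one]
  decide +kernel

/-- the element mapping `z₁` to `z₂` -/
def g12 : PE := ⟨q1, M2.one, false⟩

theorem ok_g12 : g12.Ok := ⟨by decide, by decide⟩

theorem frame : ∃ z₁ z₂ z₃ z₄ k₁ k₂ c₃ c₄ : PSp 2 F3, k₁ * z * k₁⁻¹ = z₁ ∧ k₂ * z * k₂⁻¹ = z₂ ∧ c₃ * z * c₃⁻¹ = z₃ ∧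
    c₄ * z * c₄⁻¹ = z₄ ∧ z₁ * z = z * z₁ ∧ z₂ * z = z * z₂ ∧ z₃ * z = z * z₃ ∧ z₄ * z = z * z₄ ∧
    z₁ * z₂ = z₂ * z₁ ∧ z₁ * z₃ = z₃ * z₁ ∧ z₂ * z₄ = z₄ * z₂ ∧ z₁ ≠ z₂ ∧ z₁ ≠ z₃ ∧ z₂ ≠ z₄ ∧
    z₃ * z₁ ≠ z ∧ (z₃ * z₁) * z = z₄ * z₂ ∧
    c₃ * (z₁ * z₂) = (z₁ * z₂) * c₃ ∧ c₄ * (z₁ * z₂) = (z₁ * z₂) * c₄ ∧
    ∀ r ∈ R, r * r = 1 → r ≠ 1 → r ≠ z → ∃ p, p * z = z * p ∧ p * r * p⁻¹ = z₁ * z₂ := by
  have ne : ∀ {p q : PE}, p.Ok → q.Ok → p.beqs q = false → p.el ≠ q.el := by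
    intro p q hp hq h e
    rw [(el_eq_iff hp hq).1 e] at h
    exact Bool.noConfusion h
  have hz : z = zz.el := rfl
  refine ⟨vv.el, z2.el, z3.el, z4.el, π K0, g12.el * π K0, π M3, π M4, ?_, ?_, ?_, ?_, z_comm ok_vv, z_comm ok_z2,
    z_comm ok_z3, z_comm ok_z4, ?_, ?_, ?_, ?_, ?_, ?_, ?_, ?_, ?_, ?_, ?_⟩
  · rw [k_z, mul_inv_cancel_right]
  · have e1 : g12.el * π K0 * z * (g12.el * π K0)⁻¹ = g12.el * (π K0 * z * (π K0)⁻¹) * g12.el⁻¹ := by group
    rw [e1, k_z, mul_inv_cancel_right, ← el_cj ok_g12 ok_vv]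
    exact eq_el (ok_cj ok_g12 ok_vv) ok_z2 (by decide)
  · rw [c3_z, mul_inv_cancel_right]
  · rw [c4_z, mul_inv_cancel_right]
  · exact (comm_iff ok_vv ok_z2).2 (by decide)
  · exact (comm_iff ok_vv ok_z3).2 (by decide)
  · exact (comm_iff ok_z2 ok_z4).2 (by decide)
  · exact ne ok_vv ok_z2 (by decide)
  · exact ne ok_vv ok_z3 (by decide)
  · exact ne ok_z2 ok_z4 (by decide)
  · rw [← el_mul ok_z3 ok_vv, hz]
    exact ne (ok_z3.mul ok_vv) ok_zz (by decide)
  · rw [← el_mul ok_z3 ok_vv, hz, ← el_mul (ok_z3.mul ok_vv) ok_zz, ← el_mul ok_z4 ok_z2]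
    exact eq_el ((ok_z3.mul ok_vv).mul ok_zz) (ok_z4.mul ok_z2) (by decide)
  · rw [w12_eq]; exact c3_w
  · rw [w12_eq]; exact c4_w
  · rintro _ ⟨q, hq, hR, rfl⟩ hrr hr1 hrz
    have c := allPE_spec p3_check hq
    have n1 : q.beqs one = false := by
      rw [Bool.eq_false_iff]
      intro h
      exact hr1 ((el_eq_one hq).2 h)
    have nz : q.beqs zz = false := by
      rw [Bool.eq_false_iff]
      intro h
      exact hrz (eq_el hq ok_zz h)
    have n2 : isOne (q.mul q) = true := by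
      rw [← el_eq_one (hq.mul hq), el_mul hq hq]; exact hrr
    rw [hR, n1, nz, n2] at c
    have c' : anyG (fun a => anyG (fun b => (cj ⟨a, b, false⟩ q).beqs (vv.mul z2)) C6) C6 = true := c
    rw [anyG_iff] at c'
    obtain ⟨a, ha, c'⟩ := c'
    rw [anyG_iff] at c'
    obtain ⟨b, hb, c'⟩ := c'
    have hab : (PE.mk a b false).Ok := ⟨C6_det a ha, C6_det b hb⟩
    refine ⟨(PE.mk a b false).el, z_comm hab, ?_⟩
    rw [← el_cj hab hq, ← el_mul ok_vv ok_z2]
    exact eq_el (ok_cj hab hq) (ok_vv.mul ok_z2) c'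

/-- **`FactsOut.Sp`** -/
theorem sp_facts : FactsOut.Sp z R where
  toThree := three
  rr := rr
  RD := R_le_DD
  dd := dd
  zR1 := zR1
  p2 := p2
  p4 := p4
  frame := frame
  delta := delta

end PE

end Cfsg.Agent.KFacts.PSpFourThree

/-! ### transport -/

namespace Cfsg.Agent.OddHalf.D6.QThree.FactsOut

open Subgroup Facts

variable {K L : Type*} [Group K] [Group L]

theorem OD_map (e : K ≃* L) {z x : K} : e x ∈ OD (e z) ↔ x ∈ OD z := by
  refine tr_closure e (p := fun x => x * z = z * x ∧ Odd (orderOf x)) ?_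
  intro x
  rw [tr_comm, tr_order]

theorem Sp.map {z : K} {R : Subgroup K} (h : Sp z R) (e : K ≃* L) : Sp (e z) (R.map e.toMonoidHom) where
  toThree := h.toThree.map e
  rr := by
    rintro _ ⟨a, ha, rfl⟩ _ ⟨b, hb, rfl⟩
    have e1 : e a * e b * (e a)⁻¹ * (e b)⁻¹ = e (a * b * a⁻¹ * b⁻¹) := by
      rw [map_mul, map_mul, map_mul, map_inv, map_inv]
    show e a * e b * (e a)⁻¹ * (e b)⁻¹ = 1 ∨ e a * e b * (e a)⁻¹ * (e b)⁻¹ = e z
    rw [e1]
    rcases h.rr a ha b hb with h1 | h1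
    · left; rw [h1, map_one]
    · right; rw [h1]
  RD := by
    rintro _ ⟨a, ha, rfl⟩
    exact (OD_map e).2 (h.RD ha)
  dd := by
    intro a ha b hb
    obtain ⟨a, rfl⟩ := e.surjective a
    obtain ⟨b, rfl⟩ := e.surjective b
    have e1 : e a * e b * (e a)⁻¹ * (e b)⁻¹ = e (a * b * a⁻¹ * b⁻¹) := by
      rw [map_mul, map_mul, map_mul, map_inv, map_inv]
    rw [e1]
    exact (tr_mem e).2 (h.dd a ((OD_map e).1 ha) b ((OD_map e).1 hb))
  zR1 := by
    intro k hk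
    obtain ⟨k, rfl⟩ := e.surjective k
    rw [tr_conj] at hk ⊢
    rw [h.zR1 k ((tr_mem e).1 hk)]
  p2 := by
    intro k k' h1 h2 h3
    obtain ⟨k, rfl⟩ := e.surjective k
    obtain ⟨k', rfl⟩ := e.surjective k'
    rw [tr_conj] at h1 h2
    rw [tr_conj, tr_conj, ← map_mul] at h3
    exact h.p2 k k' ((tr_comm e).1 h1) (fun h4 => h2 (by rw [h4])) (e.injective h3)
  p4 := by
    rintro _ ⟨r, hr, rfl⟩ hr1 hrz
    obtain ⟨p, h1, h2, h3, h4⟩ := h.p4 r hr (fun h5 => hr1 (by rw [h5]; exact map_one e))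
      (fun h5 => hrz (by rw [h5]; rfl))
    refine ⟨e p, (tr_comm e).2 h1, ?_, ?_, ?_⟩
    · show e p * e r * (e p)⁻¹ * e r = e r * (e p * e r * (e p)⁻¹)
      rw [tr_conj]; exact (tr_comm e).2 h2
    · show e p * e r * (e p)⁻¹ ≠ e r
      rw [tr_conj]; exact fun h5 => h3 (e.injective h5)
    · show e p * e r * (e p)⁻¹ ≠ e r * e z
      rw [tr_conj, ← map_mul]; exact fun h5 => h4 (e.injective h5)
  frame := by
    obtain ⟨z₁, z₂, z₃, z₄, k₁, k₂, c₃, c₄, e1, e2, e3, e4, z1z, z2z, z3z, z4z, c12, c13, c24, n12, n13, n24, n31,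
      prod, d3, d4, p3⟩ := h.frame
    refine ⟨e z₁, e z₂, e z₃, e z₄, e k₁, e k₂, e c₃, e c₄, by rw [tr_conj, e1], by rw [tr_conj, e2],
      by rw [tr_conj, e3], by rw [tr_conj, e4], (tr_comm e).2 z1z, (tr_comm e).2 z2z, (tr_comm e).2 z3z,
      (tr_comm e).2 z4z, (tr_comm e).2 c12, (tr_comm e).2 c13, (tr_comm e).2 c24, fun h1 => n12 (e.injective h1),
      fun h1 => n13 (e.injective h1), fun h1 => n24 (e.injective h1), ?_, ?_, ?_, ?_, ?_⟩
    · rw [← map_mul]; exact fun h1 => n31 (e.injective h1)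
    · rw [← map_mul, ← map_mul, ← map_mul, prod]
    · rw [← map_mul e z₁]; exact (tr_comm e).2 d3
    · rw [← map_mul e z₁]; exact (tr_comm e).2 d4
    · rintro _ ⟨r, hr, rfl⟩ hrr hr1 hrz
      obtain ⟨p, h1, h2⟩ := p3 r hr (e.injective (by rw [map_mul, map_one]; exact hrr))
        (fun h5 => hr1 (by rw [h5]; exact map_one e)) (fun h5 => hrz (by rw [h5]; rfl))
      refine ⟨e p, (tr_comm e).2 h1, ?_⟩
      show e p * e r * (e p)⁻¹ = e z₁ * e z₂
      rw [tr_conj, h2, map_mul]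
  delta := by
    obtain ⟨v, d, e', vv, vz, vD, PD, dD, eD, dR, eR, vd, ve, cd, ce, gen⟩ := h.delta
    have ecomm : ∀ a b : K, e a * e b * (e a)⁻¹ * (e b)⁻¹ = e (a * b * a⁻¹ * b⁻¹) := fun a b => by
      rw [map_mul, map_mul, map_mul, map_inv, map_inv]
    have einv : ∀ a b : K, e a * e b * (e a)⁻¹ * (e b) = e (a * b * a⁻¹ * b) := fun a b => by
      rw [map_mul, map_mul, map_mul, map_inv]
    refine ⟨e v, e d, e e', by rw [← map_mul, vv, map_one], (tr_comm e).2 vz, fun h1 => vD ((OD_map e).1 h1), ?_,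
      (OD_map e).2 dD, (OD_map e).2 eD, fun h1 => dR ((tr_mem e).1 h1), fun h1 => eR ((tr_mem e).1 h1), ?_, ?_, ?_, ?_,
      ?_⟩
    · intro g hg
      obtain ⟨g, rfl⟩ := e.surjective g
      rcases PD g ((tr_comm e).1 hg) with h1 | h1
      · exact Or.inl ((OD_map e).2 h1)
      · right; rw [← map_mul]; exact (OD_map e).2 h1
    · rw [ecomm]; exact (tr_mem e).2 vd
    · rw [einv]; exact (tr_mem e).2 ve
    · intro x hx h1
      obtain ⟨x, rfl⟩ := e.surjective x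
      rw [ecomm] at h1
      rcases cd x ((OD_map e).1 hx) ((tr_mem e).1 h1) with h2 | h2 | h2
      · exact Or.inl ((tr_mem e).2 h2)
      · right; left; rw [← map_inv, ← map_mul]; exact (tr_mem e).2 h2
      · right; right; rw [← map_mul]; exact (tr_mem e).2 h2
    · intro x hx h1
      obtain ⟨x, rfl⟩ := e.surjective x
      rw [einv] at h1
      rcases ce x ((OD_map e).1 hx) ((tr_mem e).1 h1) with h2 | h2 | h2
      · exact Or.inl ((tr_mem e).2 h2)
      · right; left; rw [← map_inv, ← map_mul]; exact (tr_mem e).2 h2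
      · right; right; rw [← map_mul]; exact (tr_mem e).2 h2
    · intro x hx
      obtain ⟨x, rfl⟩ := e.surjective x
      have h1 : e x ∈ (closure (({d, e'} : Set K) ∪ (R : Set K))).map e.toMonoidHom :=
        ⟨x, gen ((OD_map e).1 hx), rfl⟩
      rw [MonoidHom.map_closure] at h1
      refine closure_mono ?_ h1
      rintro _ ⟨y, (hy | hy) | hy, rfl⟩
      · rw [hy]; exact Or.inl (Or.inl rfl)
      · have hy' : y = e' := hy
        rw [hy']; exact Or.inl (Or.inr rfl)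
      · exact Or.inr ⟨y, hy, rfl⟩

end Cfsg.Agent.OddHalf.D6.QThree.FactsOut

namespace Cfsg.Agent.KFacts.PSpFourThree

open Cfsg
open Cfsg.Agent.OddHalf.D6.QThree

/-- `Sp` and `Aut` for the same `z`, `R` -/
theorem exists_sp_aut {K : Type*} [Group K] {F : Type*} [Field F] [Fintype F] (hF : Fintype.card F = 3)
    (e : Nonempty (K ≃* PSp 2 F)) : ∃ (z : K) (R : Subgroup K), FactsOut.Sp z R ∧ FactsOut.Aut z R := by
  obtain ⟨e⟩ := e
  exact ⟨_, _, PE.sp_facts.map (e.trans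
    (Cfsg.Agent.LieClassical.FieldTransfer.pspCongr 2 (Cfsg.Agent.Lib.FieldThree.equivOfCard hF))).symm,
    PE.aut.map (e.trans
    (Cfsg.Agent.LieClassical.FieldTransfer.pspCongr 2 (Cfsg.Agent.Lib.FieldThree.equivOfCard hF))).symm⟩

end Cfsg.Agent.KFacts.PSpFourThree

end

-- merged: Cfsg.Agent.OddHalf.D6.QThree.NIB.SpOf
section

/-!
# ODD half, D6, NI with `B`: the reflections with `L* = PSp₄(3)` (helper801, text: #14694 (4a))

`Data.facts`: the facts on `L ≅ PSp₄(3)` for `z`, `R`; `Data.mem_R`: `R = O₂(D)`; `Data.norm_R`.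
-/

set_option autoImplicit false

namespace Cfsg.Agent.OddHalf.D6.QThree.RefOf

open Subgroup Cfsg Cfsg.Agent.OddHalf.Iface Cfsg.Agent.OddHalf.D3
open Cfsg.Agent.KFacts.PSpFourThree
open Cfsg.Agent.Lib.FieldThree (F3)

universe u

/-- the facts for a given `z` and a given `R` -/
theorem sp_of {L : Type*} [Group L] {F : Type*} [Field F] [Fintype F] (hF : Fintype.card F = 3)
    (e : L ≃* PSp 2 F) {z : L} (zz : z * z = 1) (z1 : z ≠ 1) {N : Subgroup L} (hN : IsPGroup 2 N)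
    (hz : ∀ n ∈ N, n * z = z * n) (hn : ∀ g, g * z = z * g → ∀ n ∈ N, g * n * g⁻¹ ∈ N)
    (hna : ∃ a ∈ N, ∃ b ∈ N, a * b ≠ b * a) : FactsOut.Sp z N ∧ FactsOut.Aut z N := by
  let f : L ≃* Cfsg.PSp 2 F3 := e.trans
    (Cfsg.Agent.LieClassical.FieldTransfer.pspCongr 2 (Cfsg.Agent.Lib.FieldThree.equivOfCard hF))
  obtain ⟨k, hk⟩ : ∃ k, k * PE.z * k⁻¹ = f z := by
    rcases three.classes (f z) (by rw [← map_mul, zz, map_one])
      (fun h1 => z1 ((map_eq_one_iff f f.injective).1 h1)) with h1 | h1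
    · exact h1
    · exfalso
      obtain ⟨a, ha, b, hb, hab⟩ := hna
      apply hab
      apply f.injective
      rw [map_mul, map_mul]
      refine h1 (N.map f.toMonoidHom) (hN.map _) ?_ ?_ _ (mem_map_of_mem _ ha) _ (mem_map_of_mem _ hb)
      · rintro _ ⟨n, hn', rfl⟩
        show f n * f z = f z * f n
        rw [← map_mul, hz n hn', map_mul]
      · rintro g hg _ ⟨n, hn', rfl⟩
        obtain ⟨g, rfl⟩ := f.surjective g
        have hg' : g * z = z * g := f.injective (by rw [map_mul, map_mul]; exact hg)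
        refine ⟨g * n * g⁻¹, hn g hg' n hn', ?_⟩
        show f (g * n * g⁻¹) = f g * f n * (f g)⁻¹
        rw [map_mul, map_mul, map_inv]
  let f' : Cfsg.PSp 2 F3 ≃* L := (MulAut.conj k).trans f.symm
  have hz' : f' PE.z = z := by
    show f.symm (k * PE.z * k⁻¹) = z
    rw [hk, f.symm_apply_apply]
  have h1 : FactsOut.Sp z (PE.R.map f'.toMonoidHom) := by
    have := PE.sp_facts.map f'
    rwa [hz'] at this
  have h2 : FactsOut.Aut z (PE.R.map f'.toMonoidHom) := by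
    have := PE.aut.map f'
    rwa [hz'] at this
  have h3 : N = PE.R.map f'.toMonoidHom := by
    rcases h1.irr N (h1.max N hN hz hn) hn with h4 | h4
    · exfalso
      obtain ⟨a, ha, b, hb, hab⟩ := hna
      apply hab
      have hcomm : ∀ x : L, x * 1 = 1 * x := fun x => by rw [one_mul, mul_one]
      rcases h4 a ha with rfl | rfl
      · exact (hcomm b).symm
      · exact (hz b hb).symm
    · exact h4
  rw [h3]
  exact ⟨h1, h2⟩

namespace Data

variable {G : Type u} [Group G] {t z b : G} {D R L : Subgroup G} {F : Type} [Field F] [Fintype F]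

/-- the facts on `L` -/
theorem facts (h : Data t z b D R L F) :
    FactsOut.Sp (⟨z, h.zL⟩ : L) (R.subgroupOf L) ∧ FactsOut.Aut (⟨z, h.zL⟩ : L) (R.subgroupOf L) := by
  obtain ⟨e⟩ := h.iso
  have hRL : R ≤ L := h.RD.trans h.DL
  refine sp_of h.hF e (Subtype.ext h.zz) (fun h1 => h.z1 (congrArg Subtype.val h1))
    (h.pR.of_equiv (subgroupOfEquivOfLe hRL).symm) (fun n hn => Subtype.ext (h.Dz n (h.RD hn)))
    (fun g hg n hn => h.nR g g.2 (congrArg Subtype.val hg) n hn) ?_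
  obtain ⟨x, hx, y, hy, hxy⟩ := h.na
  exact ⟨⟨x, hRL hx⟩, hx, ⟨y, hRL hy⟩, hy, fun e => hxy (congrArg Subtype.val e)⟩

/-- `C_L(R) = ⟨z⟩` -/
theorem cR (h : Data t z b D R L F) {c : G} (hc : c ∈ L) (hcR : ∀ r ∈ R, c * r = r * c) : c = 1 ∨ c = z := by
  rcases h.facts.1.cR (⟨c, hc⟩ : L) (Subtype.ext (hcR z h.zR)) (fun r hr => Subtype.ext (hcR r hr)) with h1 | h1
  · exact Or.inl (congrArg Subtype.val h1)
  · exact Or.inr (congrArg Subtype.val h1)

/-- `[D, D] ≤ R` -/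
theorem dd (h : Data t z b D R L F) {x y : G} (hx : x ∈ D) (hy : y ∈ D) : x * y * x⁻¹ * y⁻¹ ∈ R := by
  have key : ∀ x ∈ D, ∃ hxL : x ∈ L, (⟨x, hxL⟩ : L) ∈ FactsOut.OD (⟨z, h.zL⟩ : L) := by
    intro x hx
    have h1 : D ≤ (FactsOut.OD (⟨z, h.zL⟩ : L)).map L.subtype := by
      refine h.gen.trans ((closure_le _).2 ?_)
      rintro y ⟨hy, ho⟩
      refine ⟨⟨y, h.DL hy⟩, subset_closure ⟨Subtype.ext (h.Dz y hy), ?_⟩, rfl⟩
      rwa [Subgroup.orderOf_mk]
    obtain ⟨w, hw, rfl⟩ := h1 hx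
    exact ⟨w.2, hw⟩
  obtain ⟨hxL, hx'⟩ := key x hx
  obtain ⟨hyL, hy'⟩ := key y hy
  exact h.facts.1.dd _ hx' _ hy'

/-- `R` contains the 2-elements of `D` -/
theorem mem_R (h : Data t z b D R L F) [Finite G] {x : G} (hx : x ∈ D) {n : ℕ} (hxn : x ^ 2 ^ n = 1) : x ∈ R := by
  have hnor : ∀ d ∈ D, ∀ r ∈ R, d * r * d⁻¹ ∈ R := fun d hd => h.nR d (h.DL hd) (h.Dz d hd)
  have : (R.subgroupOf D).Normal := ⟨fun r hr d => hnor d d.2 r hr⟩
  have hc : ∀ p q : D ⧸ R.subgroupOf D, p * q = q * p := by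
    intro p q
    obtain ⟨u, rfl⟩ := QuotientGroup.mk'_surjective _ p
    obtain ⟨v, rfl⟩ := QuotientGroup.mk'_surjective _ q
    rw [← map_mul, ← map_mul, QuotientGroup.mk'_eq_mk']
    refine ⟨(u * v)⁻¹ * (v * u), ?_, by group⟩
    have h1 := h.dd (D.inv_mem v.2) (D.inv_mem u.2)
    rw [mem_subgroupOf]
    have e : (((u * v)⁻¹ * (v * u) : D) : G) = (v : G)⁻¹ * (u : G)⁻¹ * ((v : G)⁻¹)⁻¹ * ((u : G)⁻¹)⁻¹ := by
      push_cast
      group
    rw [e]
    exact h1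
  -- every element of `D / R` has odd order
  have hodd : ∀ p : D ⧸ R.subgroupOf D, Odd (orderOf p) := by
    let S : Subgroup (D ⧸ R.subgroupOf D) :=
      { carrier := {p | Odd (orderOf p)}
        one_mem' := by
          show Odd (orderOf (1 : D ⧸ R.subgroupOf D))
          rw [orderOf_one]; exact odd_one
        mul_mem' := by
          intro p q hp hq
          exact Odd.of_dvd_nat (hp.mul hq) (Commute.orderOf_mul_dvd_mul_orderOf (hc p q))
        inv_mem' := by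
          intro p hp
          show Odd (orderOf p⁻¹)
          rwa [orderOf_inv] }
    have h1 : D ≤ (S.comap (QuotientGroup.mk' (R.subgroupOf D))).map D.subtype := by
      refine h.gen.trans ((closure_le _).2 ?_)
      rintro y ⟨hy, ho⟩
      refine ⟨⟨y, hy⟩, ?_, rfl⟩
      show Odd (orderOf (QuotientGroup.mk' (R.subgroupOf D) ⟨y, hy⟩))
      refine Odd.of_dvd_nat ho ?_
      rw [← Subgroup.orderOf_mk y hy]
      exact orderOf_map_dvd _ _
    intro p
    obtain ⟨u, rfl⟩ := QuotientGroup.mk'_surjective _ p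
    obtain ⟨w, hw, hwu⟩ := h1 u.2
    have : w = u := Subtype.ext hwu
    rw [← this]
    exact hw
  have h2 : QuotientGroup.mk' (R.subgroupOf D) ⟨x, hx⟩ = 1 := by
    have h3 : orderOf (QuotientGroup.mk' (R.subgroupOf D) ⟨x, hx⟩) ∣ 2 ^ n := by
      apply orderOf_dvd_of_pow_eq_one
      rw [← map_pow]
      have : (⟨x, hx⟩ : D) ^ 2 ^ n = 1 := Subtype.ext hxn
      rw [this, map_one]
    have h4 : Nat.Coprime (orderOf (QuotientGroup.mk' (R.subgroupOf D) ⟨x, hx⟩)) (2 ^ n) :=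
      (Nat.coprime_two_right.2 (hodd _)).pow_right n
    exact orderOf_eq_one_iff.1 (Nat.Coprime.eq_one_of_dvd h4 h3)
  have h5 := (QuotientGroup.eq_one_iff (N := R.subgroupOf D) (⟨x, hx⟩ : D)).1 h2
  exact h5

/-- an element of `C(z)` which normalises `D` normalises `R` -/
theorem norm_R (h : Data t z b D R L F) [Finite G] {g : G} (hg : ∀ d ∈ D, g * d * g⁻¹ ∈ D) :
    ∀ r ∈ R, g * r * g⁻¹ ∈ R := by
  intro r hr
  obtain ⟨n, hn⟩ := h.pR ⟨r, hr⟩
  have hn' : r ^ 2 ^ n = 1 := congrArg Subtype.val hn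
  refine h.mem_R (n := n) (hg r (h.RD hr)) ?_
  rw [conj_pow, hn', mul_one, mul_inv_cancel]

end Data

end Cfsg.Agent.OddHalf.D6.QThree.RefOf

end
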