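import Cfsg.Agent.Transfer.MaximalClass
import Cfsg.Agent.S0112
import Cfsg.Agent.Lib.DihedralRecog
import Cfsg.Agent.OddHalf.D6.QThree.NIB.Hyp

-- merged: Cfsg.Agent.OddHalf.D6.QThree.NIB.MaxCls
section

/-!
# Groups with an element `c` of order `4` with `C(c) = ⟨c⟩`, and `C(O_2) ≤ O_2`

`Self c z`: `c² = z`, `z` a central involution of `C`, `C_C(c) = ⟨c⟩`. `main`: `F` a characteristic 2-subgroup of `C` with
`C_C(F) ≤ F`, equal to `C` if `C` is a 2-group, and no normal four-group of `C` contains `z`. Then `C = ⟨c⟩`, or `F` is a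
quaternion group of order eight, or `C` is a dihedral group of order eight, or there is an element `u`, `u² = z`, such
that `⟨u⟩` is a characteristic subgroup of `C` and `u^c = u⁻¹`.
-/

set_option autoImplicit false

namespace Cfsg.Agent.OddHalf.D6.QThree.NIB.MaxCls

open Subgroup

variable {C : Type*} [Group C] {c z : C}

/-- the setting -/
structure Self (c z : C) : Prop where
  cc : c * c = z
  zz : z * z = 1
  z1 : z ≠ 1
  zc : ∀ x : C, x * z = z * x
  self : ∀ x : C, x * c = c * x → x ∈ zpowers c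

theorem Self.ord (h : Self c z) : orderOf c = 4 := by
  have h1 : c ^ 4 = 1 := by
    rw [show (4 : ℕ) = 2 * 2 from rfl, pow_mul, pow_two c, h.cc, pow_two, h.zz]
  have h2 : ¬ orderOf c ∣ 2 := by
    intro h2
    have h3 := orderOf_dvd_iff_pow_eq_one.1 h2
    rw [pow_two, h.cc] at h3
    exact h.z1 h3
  have h3 : orderOf c ∣ 4 := orderOf_dvd_of_pow_eq_one h1
  have h4 : orderOf c ≤ 4 := Nat.le_of_dvd (by norm_num) h3
  have h5 : 0 < orderOf c := orderOf_pos_iff.2 (isOfFinOrder_iff_pow_eq_one.2 ⟨4, by norm_num, h1⟩)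
  interval_cases h : orderOf c <;> first | rfl | omega

/-- a 2-group containing `c` is `⟨c⟩` or has a cyclic subgroup of index two and centre `⟨z⟩` -/
theorem Self.max_class [Finite C] (h : Self c z) {P : Subgroup C} (hP : IsPGroup 2 P) (hcP : c ∈ P) :
    P = zpowers c ∨ ∃ w ∈ P, 4 ≤ orderOf w ∧
      (∀ x ∈ P, ∀ y ∈ P, x ∉ zpowers w → y ∉ zpowers w → x⁻¹ * y ∈ zpowers w) ∧
      (∀ x ∈ P, (∀ y ∈ P, x * y = y * x) → x = 1 ∨ x = z) := by
  have : Fact (Nat.Prime 2) := ⟨Nat.prime_two⟩
  obtain ⟨n, hn⟩ := IsPGroup.iff_card.1 hP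
  have hle : zpowers c ≤ P := by rw [zpowers_le]; exact hcP
  have hzP : z ∈ P := by rw [← h.cc]; exact mul_mem hcP hcP
  set A0 : Subgroup P := (zpowers c).subgroupOf P with hA0
  have hcA : Nat.card A0 = 2 ^ 2 := by
    rw [Nat.card_congr (subgroupOfEquivOfLe hle).toEquiv, Nat.card_zpowers, h.ord]
    norm_num
  have hself : centralizer (A0 : Set P) = A0 := by
    apply le_antisymm
    · intro x hx
      rw [mem_centralizer_iff] at hx
      have h1 := hx ⟨c, hcP⟩ (by
        rw [SetLike.mem_coe, hA0, mem_subgroupOf]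
        exact mem_zpowers c)
      rw [hA0, mem_subgroupOf]
      exact h.self _ (congrArg Subtype.val h1).symm
    · intro x hx
      rw [mem_centralizer_iff]
      intro y hy
      rw [SetLike.mem_coe, hA0, mem_subgroupOf] at hy
      rw [hA0, mem_subgroupOf] at hx
      obtain ⟨i, hi⟩ := mem_zpowers_iff.1 hx
      obtain ⟨j, hj⟩ := mem_zpowers_iff.1 hy
      apply Subtype.ext
      show (y : C) * x = x * y
      rw [← hi, ← hj, ← zpow_add, ← zpow_add, add_comm]
  have hcl := S0112.result n hn A0 hcA hself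
  have hdvd : 2 ^ 2 ∣ 2 ^ n := by
    rw [← hcA, ← hn]
    exact card_subgroup_dvd_card A0
  have hn2 : 2 ≤ n := (Nat.pow_dvd_pow_iff_le_right (by norm_num)).1 hdvd
  rcases Nat.lt_or_ge n 3 with h3 | h3
  · left
    have e : n = 2 := by omega
    symm
    apply Subgroup.eq_of_le_of_card_ge hle
    rw [hn, e, Nat.card_zpowers, h.ord]
    norm_num
  · right
    obtain ⟨A, hA, hidx⟩ := Cfsg.Agent.Transfer.MaximalClass.exists_isCyclic_index_two_of_maxClass n h3 P hn hcl
    have hZ := Cfsg.Agent.Transfer.MaximalClass.card_center_of_maxClass h3 hn hcl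
    obtain ⟨⟨w, hwA⟩, hw⟩ := hA.exists_generator
    have hAw : ∀ x : P, x ∈ A ↔ (x : C) ∈ zpowers (w : C) := by
      intro x
      constructor
      · intro hx
        obtain ⟨k, hk⟩ := mem_zpowers_iff.1 (hw ⟨x, hx⟩)
        refine mem_zpowers_iff.2 ⟨k, ?_⟩
        have := congrArg (fun y : A => ((y : P) : C)) hk
        simpa using this
      · intro hx
        obtain ⟨k, hk⟩ := mem_zpowers_iff.1 hx
        have : x = w ^ k := Subtype.ext (by rw [← hk]; rfl)
        rw [this]
        exact zpow_mem hwA k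
    have hcardA : Nat.card A = 2 ^ (n - 1) := by
      have h1 := card_mul_index A
      rw [hidx, hn] at h1
      have h2 : 2 ^ n = 2 ^ (n - 1) * 2 := by
        rw [← pow_succ]
        congr 1
        omega
      rw [h2] at h1
      exact Nat.eq_of_mul_eq_mul_right (by norm_num) h1
    have hordw : orderOf (w : C) = 2 ^ (n - 1) := by
      rw [← hcardA, ← orderOf_eq_card_of_forall_mem_zpowers hw]
      have h1 : orderOf (w : C) = orderOf w := Subgroup.orderOf_coe w
      rw [h1]
      exact (Subgroup.orderOf_mk w hwA).symm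
    refine ⟨w, w.2, ?_, ?_, ?_⟩
    · rw [hordw]
      calc 4 = 2 ^ 2 := by norm_num
        _ ≤ 2 ^ (n - 1) := Nat.pow_le_pow_right (by norm_num) (by omega)
    · intro x hx y hy hxA hyA
      have h1 : (⟨x, hx⟩ : P)⁻¹ * ⟨y, hy⟩ ∈ A := by
        rw [mul_mem_iff_of_index_two hidx, inv_mem_iff]
        exact ⟨fun h2 => absurd ((hAw _).1 h2) hxA, fun h2 => absurd ((hAw _).1 h2) hyA⟩
      exact (hAw _).1 h1
    · intro x hx hcom
      have hxZ : (⟨x, hx⟩ : P) ∈ center P := mem_center_iff.2 fun y => Subtype.ext (hcom y y.2).symm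
      have hzZ : (⟨z, hzP⟩ : P) ∈ center P := mem_center_iff.2 fun y => Subtype.ext (h.zc y)
      by_contra hne
      push Not at hne
      have h1 : ({1, ⟨z, hzP⟩, ⟨x, hx⟩} : Set P) ⊆ (center P : Set P) := by
        rintro y (rfl | rfl | rfl)
        · exact one_mem _
        · exact hzZ
        · exact hxZ
      have h2 : ({1, ⟨z, hzP⟩, ⟨x, hx⟩} : Set P).ncard = 3 := by
        have e1 : (1 : P) ≠ ⟨z, hzP⟩ := fun e => h.z1 (congrArg Subtype.val e).symm
        have e2 : (1 : P) ≠ ⟨x, hx⟩ := fun e => hne.1 (congrArg Subtype.val e).symm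
        have e3 : (⟨z, hzP⟩ : P) ≠ ⟨x, hx⟩ := fun e => hne.2 (congrArg Subtype.val e).symm
        rw [Set.ncard_insert_of_notMem (by simp [e1, e2]), Set.ncard_pair e3]
      have h3 := Set.ncard_le_ncard h1 (Set.toFinite _)
      have h4 : (center P : Set P).ncard = 2 := by
        rw [← hZ]; exact (Nat.card_coe_set_eq _).symm
      omega

/-- a group with a normal 2-subgroup `F`, `C(F) ≤ F`, and a normal cyclic subgroup of index at most two of `F` -/
theorem isPGroup_of [Finite C] {F B : Subgroup C} (hFp : IsPGroup 2 F) (hCF : centralizer (F : Set C) ≤ F)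
    (hBF : B ≤ F) (hB : IsCyclic B) (hBn : ∀ g : C, ∀ x ∈ B, g * x * g⁻¹ ∈ B) (hFn : ∀ g : C, ∀ x ∈ F, g * x * g⁻¹ ∈ F)
    (hidx : ∀ x ∈ F, ∀ y ∈ F, x ∉ B → y ∉ B → x⁻¹ * y ∈ B) : IsPGroup 2 C := by
  have : Fact (Nat.Prime 2) := ⟨Nat.prime_two⟩
  have hodd : ∀ d : C, Odd (orderOf d) → d = 1 := by
    intro d hd
    have two : ∀ b : C, b ^ orderOf d = 1 → b ∈ F → b = 1 := by
      intro b hb hbF
      obtain ⟨k, hk⟩ := hFp ⟨b, hbF⟩
      have hk' : b ^ 2 ^ k = 1 := congrArg Subtype.val hk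
      have h1 : orderOf b ∣ 2 ^ k := orderOf_dvd_of_pow_eq_one hk'
      have h2 : orderOf b ∣ orderOf d := orderOf_dvd_of_pow_eq_one hb
      have h3 : Nat.Coprime (2 ^ k) (orderOf d) := Nat.Coprime.pow_left _ (Nat.coprime_two_left.2 hd)
      have h4 : orderOf b = 1 := Nat.eq_one_of_dvd_coprimes h3 h1 h2
      exact orderOf_eq_one_iff.1 h4
    -- `d` centralises `B`
    have hdB : ∀ b ∈ B, d * b * d⁻¹ = b := by
      -- the action on `B`
      let α : MulAut B :=
        { toFun := fun b => ⟨d * b * d⁻¹, hBn d b b.2⟩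
          invFun := fun b => ⟨d⁻¹ * b * d, by
            have := hBn d⁻¹ b b.2
            rwa [inv_inv] at this⟩
          left_inv := fun b => Subtype.ext (by show d⁻¹ * (d * b * d⁻¹) * d = b; group)
          right_inv := fun b => Subtype.ext (by show d * (d⁻¹ * b * d) * d⁻¹ = b; group)
          map_mul' := fun b b' => Subtype.ext (by
            show d * (b * b') * d⁻¹ = (d * b * d⁻¹) * (d * b' * d⁻¹)
            group) }
      have hpow : ∀ (k : ℕ) (b : B), ((α ^ k) b : C) = d ^ k * b * (d ^ k)⁻¹ := by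
        intro k
        induction k with
        | zero => intro b; simp
        | succ k ih =>
          intro b
          rw [pow_succ', MulAut.mul_apply]
          show d * ((α ^ k) b : C) * d⁻¹ = _
          rw [ih, pow_succ']
          group
      have h1 : α ^ orderOf d = 1 := by
        ext b
        rw [hpow, pow_orderOf_eq_one]
        simp
      have h2 : orderOf α ∣ orderOf d := orderOf_dvd_of_pow_eq_one h1
      obtain ⟨m, hm⟩ := IsPGroup.iff_card.1 (hFp.to_le hBF)
      have h3 : Nat.card (MulAut B) = Nat.totient (2 ^ m) := by rw [IsCyclic.card_mulAut, hm]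
      have h4 : orderOf α ∣ 2 ^ m := by
        have h5 : orderOf α ∣ Nat.totient (2 ^ m) := by rw [← h3]; exact orderOf_dvd_natCard α
        rcases Nat.eq_zero_or_pos m with h0 | h0
        · rw [h0] at h5 ⊢
          simpa using h5
        · rw [Nat.totient_prime_pow Nat.prime_two h0] at h5
          refine h5.trans ?_
          rw [show (2 - 1 : ℕ) = 1 from rfl, mul_one]
          exact Nat.pow_dvd_pow 2 (by omega)
      have h5 : Nat.Coprime (2 ^ m) (orderOf d) := Nat.Coprime.pow_left _ (Nat.coprime_two_left.2 hd)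
      have h6 : orderOf α = 1 := Nat.eq_one_of_dvd_coprimes h5 h4 h2
      have h7 : α = 1 := orderOf_eq_one_iff.1 h6
      intro b hb
      have h8 : (α ⟨b, hb⟩ : C) = b := by rw [h7]; rfl
      exact h8
    -- `d` centralises `F`
    have hdF : ∀ f ∈ F, d * f * d⁻¹ = f := by
      intro f hf
      by_cases hfB : f ∈ B
      · exact hdB f hfB
      have h1 : d * f * d⁻¹ ∉ B := by
        intro h2
        apply hfB
        have h3 := hBn d⁻¹ _ h2
        have e : d⁻¹ * (d * f * d⁻¹) * d⁻¹⁻¹ = f := by group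
        rwa [e] at h3
      have h2 := hidx f hf _ (hFn d f hf) hfB h1
      set b := f⁻¹ * (d * f * d⁻¹) with hb
      have hdf : d * f * d⁻¹ = f * b := by rw [hb]; group
      have hdb : d * b * d⁻¹ = b := hdB b h2
      have hpow : ∀ k : ℕ, d ^ k * f * (d ^ k)⁻¹ = f * b ^ k := by
        intro k
        induction k with
        | zero => simp
        | succ k ih =>
          have hk : d * b ^ k * d⁻¹ = b ^ k := by
            rw [← MulAut.conj_apply, map_pow, MulAut.conj_apply, hdb]
          calc d ^ (k + 1) * f * (d ^ (k + 1))⁻¹ = d * (d ^ k * f * (d ^ k)⁻¹) * d⁻¹ := by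
                rw [pow_succ']; group
            _ = (d * f * d⁻¹) * (d * b ^ k * d⁻¹) := by rw [ih]; group
            _ = f * b ^ (k + 1) := by rw [hdf, hk, pow_succ', mul_assoc]
      have h3 := hpow (orderOf d)
      rw [pow_orderOf_eq_one, one_mul, inv_one, mul_one] at h3
      have h4 : b ^ orderOf d = 1 := mul_eq_left.1 h3.symm
      rw [hdf, two b h4 (hBF h2), mul_one]
    have hdc : d ∈ F := hCF (mem_centralizer_iff.2 fun f hf => by
      have h1 := hdF f hf
      rw [mul_inv_eq_iff_eq_mul] at h1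
      exact h1.symm)
    exact two d (pow_orderOf_eq_one d) hdc
  intro g
  obtain ⟨k, m, hm, hkm⟩ := Nat.exists_eq_two_pow_mul_odd (n := orderOf g) (orderOf_pos g).ne'
  refine ⟨k, hodd _ ?_⟩
  have h1 : orderOf (g ^ 2 ^ k) = m := by
    rw [orderOf_pow, hkm, Nat.gcd_eq_right (Dvd.intro _ rfl), Nat.mul_div_cancel_left _ (pow_pos (by norm_num) k)]
  rw [h1]
  exact hm

/-- elements `x`, `x⁴ = 1`, of a cyclic group -/
theorem cyc_four {v u x : C} {m : ℕ} (hv : orderOf v = 4 * m) (hu : u = v ^ m) (hx : x ∈ zpowers v)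
    (hx4 : x ^ 4 = 1) : x = 1 ∨ x = u ∨ x = u * u ∨ x = u⁻¹ := by
  obtain ⟨j, rfl⟩ := mem_zpowers_iff.1 hx
  have h1 : v ^ (j * 4) = 1 := by rw [zpow_mul]; exact_mod_cast hx4
  have h2 : ((4 * m : ℕ) : ℤ) ∣ j * 4 := by rw [← hv]; exact orderOf_dvd_iff_zpow_eq_one.2 h1
  have h3 : (m : ℤ) ∣ j := by
    have h4 : (4 : ℤ) * m ∣ 4 * j := by
      have e : ((4 * m : ℕ) : ℤ) = 4 * m := by push_cast; ring
      rw [← e, mul_comm 4 j]; exact h2
    exact (mul_dvd_mul_iff_left (by norm_num : (4 : ℤ) ≠ 0)).1 h4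
  obtain ⟨i, rfl⟩ := h3
  have hu4 : u ^ (4 : ℤ) = 1 := by
    rw [hu]
    have h5 : v ^ (4 * m) = 1 := by rw [← hv]; exact pow_orderOf_eq_one v
    have e : (v ^ m) ^ (4 : ℤ) = v ^ (4 * m) := by
      rw [← zpow_natCast, ← zpow_natCast, ← zpow_mul]
      congr 1
      push_cast
      ring
    rw [e, h5]
  have e : v ^ ((m : ℤ) * i) = u ^ i := by rw [hu, zpow_mul, zpow_natCast]
  rw [e]
  have h6 : u ^ i = u ^ (i % 4) := by
    conv_lhs => rw [← Int.emod_add_mul_ediv i 4]
    rw [zpow_add, zpow_mul, hu4, one_zpow, mul_one]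
  rw [h6]
  have h7 : i % 4 = 0 ∨ i % 4 = 1 ∨ i % 4 = 2 ∨ i % 4 = 3 := by omega
  rcases h7 with h | h | h | h
  · left; rw [h, zpow_zero]
  · right; left; rw [h, zpow_one]
  · right; right; left; rw [h]; rw [show (2 : ℤ) = 1 + 1 from rfl, zpow_add, zpow_one]
  · right; right; right
    rw [h]
    have h8 : u ^ (3 : ℤ) * u = 1 := by
      rw [← zpow_add_one]; exact hu4
    exact eq_inv_of_mul_eq_one_left h8

/-- the data of `main` -/
structure Rad (c z : C) (F : Subgroup C) : Prop extends Self c z where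
  char : ∀ α : MulAut C, ∀ x ∈ F, α x ∈ F
  pF : IsPGroup 2 F
  cF : centralizer (F : Set C) ≤ F
  max : IsPGroup 2 C → F = ⊤
  /-- no normal four-group -/
  elem : (∀ x ∈ F, x * x = 1) → ∀ x ∈ F, x = 1 ∨ x = z

variable {F : Subgroup C}

theorem Rad.nor (h : Rad c z F) (g : C) {x : C} (hx : x ∈ F) : g * x * g⁻¹ ∈ F :=
  h.char (MulAut.conj g) x hx

variable [Finite C]

/-- `F` is not cyclic, unless `C = ⟨c⟩` -/
theorem Rad.of_cyclic (h : Rad c z F) {v : C} (hv : ∀ x ∈ F, x ∈ zpowers v) : ∀ x : C, x ∈ zpowers c := by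
  have hle : F ≤ zpowers v := hv
  have hcyc : IsCyclic F := isCyclic_of_le hle
  have hC : IsPGroup 2 C := isPGroup_of h.pF h.cF le_rfl hcyc (fun g x hx => h.nor g hx) (fun g x hx => h.nor g hx)
    (fun x hx y hy hxn _ => absurd hx hxn)
  have htop := h.max hC
  have hcomm : ∀ x y : C, x * y = y * x := by
    intro x y
    have hx : x ∈ zpowers v := hv x (by rw [htop]; exact mem_top x)
    have hy : y ∈ zpowers v := hv y (by rw [htop]; exact mem_top y)
    obtain ⟨i, rfl⟩ := mem_zpowers_iff.1 hx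
    obtain ⟨j, rfl⟩ := mem_zpowers_iff.1 hy
    rw [← zpow_add, ← zpow_add, add_comm]
  exact fun x => h.self x (hcomm x c)

/-- **the theorem** -/
theorem Rad.main (h : Rad c z F) : (∀ x : C, x ∈ zpowers c) ∨
    (z ∈ F ∧ Nat.card F = 8 ∧ Nonempty (F ≃* QuaternionGroup 2)) ∨
    (Nat.card C = 8 ∧ ∃ x : C, x * x = 1 ∧ x * c * x⁻¹ = c⁻¹ ∧ ∀ f : C, f ∈ zpowers c ∨ x * f ∈ zpowers c) ∨
    (∃ u : C, u * u = z ∧ c * u * c⁻¹ = u⁻¹ ∧ ∀ α : MulAut C, α u = u ∨ α u = u⁻¹) := by
  have : Fact (Nat.Prime 2) := ⟨Nat.prime_two⟩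
  have hc4 := h.ord
  -- `P = F ⟨c⟩`
  have hcp : IsPGroup 2 (zpowers c) := by
    refine IsPGroup.of_card (n := 2) ?_
    rw [Nat.card_zpowers, hc4]
    norm_num
  have hFn : F.Normal := ⟨fun x hx g => h.nor g hx⟩
  set P : Subgroup C := F ⊔ zpowers c with hP
  have hPp : IsPGroup 2 P := IsPGroup.to_sup_of_normal_left h.pF hcp
  have hcP : c ∈ P := (le_sup_right : zpowers c ≤ P) (mem_zpowers c)
  have hFP : F ≤ P := le_sup_left
  have hzP : z ∈ P := by rw [← h.cc]; exact mul_mem hcP hcP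
  rcases h.toSelf.max_class hPp hcP with e | ⟨w, hwP, hw4, hidx, hcen⟩
  · left
    refine h.of_cyclic (v := c) fun x hx => ?_
    rw [← e]; exact hFP hx
  -- elements of `A = ⟨w⟩` commute
  have hAA : ∀ x ∈ zpowers w, ∀ y ∈ zpowers w, x * y = y * x := by
    intro x hx y hy
    obtain ⟨i, rfl⟩ := mem_zpowers_iff.1 hx
    obtain ⟨j, rfl⟩ := mem_zpowers_iff.1 hy
    rw [← zpow_add, ← zpow_add, add_comm]
  have hAP : zpowers w ≤ P := by rw [zpowers_le]; exact hwP
  -- an element of `A` commuting with some `y ∉ A` is in `{1, z}`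
  have fact2 : ∀ a ∈ zpowers w, ∀ y ∈ P, y ∉ zpowers w → a * y = y * a → a = 1 ∨ a = z := by
    intro a ha y hy hyA hay
    refine hcen a (hAP ha) fun x hx => ?_
    by_cases hxA : x ∈ zpowers w
    · exact hAA a ha x hxA
    · have h1 := hAA a ha _ (hidx y hy x hx hyA hxA)
      calc a * x = (a * y) * (y⁻¹ * x) := by group
        _ = y * (a * (y⁻¹ * x)) := by rw [hay, mul_assoc]
        _ = y * ((y⁻¹ * x) * a) := by rw [h1]
        _ = x * a := by group
  have fact1 : ∀ y ∈ P, y ∉ zpowers w → y * y = 1 ∨ y * y = z := by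
    intro y hy hyA
    have h1 : y * y ∈ zpowers w := by
      have h2 := hidx y⁻¹ (inv_mem hy) y hy (fun h3 => hyA (by simpa using inv_mem h3)) hyA
      rwa [inv_inv] at h2
    exact fact2 _ h1 y hy hyA (by rw [mul_assoc])
  have hwne : ¬ (w = 1 ∨ w = z) := by
    rintro (e | e)
    · rw [e, orderOf_one] at hw4; omega
    · have h1 : orderOf w ∣ 2 := orderOf_dvd_of_pow_eq_one (by rw [pow_two, e, h.zz])
      have := Nat.le_of_dvd (by norm_num) h1
      omega
  have hzA : z ∈ zpowers w := by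
    by_contra hzA
    exact hwne (fact2 w (mem_zpowers w) z hzP hzA (h.zc w))
  by_cases hFA : ∀ x ∈ F, x ∈ zpowers w
  · left
    exact h.of_cyclic hFA
  push Not at hFA
  obtain ⟨y, hyF, hyA⟩ := hFA
  have hyP := hFP hyF
  by_cases hB : ∀ b ∈ F, b ∈ zpowers w → b = 1 ∨ b = z
  · -- `F ∩ A ≤ ⟨z⟩`
    left
    by_cases hel : ∀ x ∈ F, x * x = 1
    · exfalso
      rcases h.elem hel y hyF with e | e
      · exact hyA (by rw [e]; exact one_mem _)
      · exact hyA (by rw [e]; exact hzA)
    · push Not at hel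
      obtain ⟨x, hx, hxx⟩ := hel
      have hxA : x ∉ zpowers w := by
        intro hxA
        rcases hB x hx hxA with e | e
        · exact hxx (by rw [e, one_mul])
        · exact hxx (by rw [e, h.zz])
      have hxz : x * x = z := (fact1 x (hFP hx) hxA).resolve_left hxx
      refine h.of_cyclic (v := x) fun f hf => ?_
      have hzx : z ∈ zpowers x := by rw [← hxz]; exact mul_mem (mem_zpowers x) (mem_zpowers x)
      by_cases hfA : f ∈ zpowers w
      · rcases hB f hf hfA with e | e
        · rw [e]; exact one_mem _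
        · rw [e]; exact hzx
      · have h1 := hidx x (hFP hx) f (hFP hf) hxA hfA
        have h2 : x⁻¹ * f ∈ F := mul_mem (inv_mem hx) hf
        have h3 : x⁻¹ * f ∈ zpowers x := by
          rcases hB _ h2 h1 with e | e
          · rw [e]; exact one_mem _
          · rw [e]; exact hzx
        have h4 := mul_mem (mem_zpowers x) h3
        rwa [mul_inv_cancel_left] at h4
  push Not at hB
  obtain ⟨b₀, hb₀F, hb₀A, hb₀1, hb₀z⟩ := hB
  -- `B = F ∩ A = ⟨v⟩`
  set B : Subgroup C := F ⊓ zpowers w with hBdef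
  have hBcyc : IsCyclic B := isCyclic_of_le (inf_le_right : B ≤ zpowers w)
  obtain ⟨⟨v, hvB⟩, hvgen⟩ := hBcyc.exists_generator
  have hBv : B = zpowers v := by
    apply le_antisymm
    · intro x hx
      obtain ⟨k, hk⟩ := mem_zpowers_iff.1 (hvgen ⟨x, hx⟩)
      refine mem_zpowers_iff.2 ⟨k, ?_⟩
      have := congrArg (fun y : B => (y : C)) hk
      simpa using this
    · rw [zpowers_le]; exact hvB
  have hvF : v ∈ F := hvB.1
  have hvA : v ∈ zpowers w := hvB.2
  have hBF : B ≤ F := inf_le_left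
  have hidxB : ∀ x ∈ F, ∀ y ∈ F, x ∉ B → y ∉ B → x⁻¹ * y ∈ B := by
    intro x hx y hy hxB hyB
    exact ⟨F.mul_mem (F.inv_mem hx) hy, hidx x (hFP hx) y (hFP hy) (fun h1 => hxB ⟨hx, h1⟩) (fun h1 => hyB ⟨hy, h1⟩)⟩
  have hyB : y ∉ B := fun h1 => hyA h1.2
  -- the order of `v`
  obtain ⟨k, hk⟩ : ∃ k, orderOf v = 2 ^ k := by
    obtain ⟨k, hk⟩ := h.pF ⟨v, hvF⟩
    have hk' : v ^ 2 ^ k = 1 := congrArg Subtype.val hk
    obtain ⟨j, -, hj⟩ := (Nat.dvd_prime_pow Nat.prime_two).1 (orderOf_dvd_of_pow_eq_one hk')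
    exact ⟨j, hj⟩
  have hvne : ¬ (v = 1 ∨ v = z) := by
    intro hv
    have h1 : b₀ ∈ zpowers v := by rw [← hBv]; exact ⟨hb₀F, hb₀A⟩
    obtain ⟨j, hj⟩ := mem_zpowers_iff.1 h1
    rcases hv with e | e
    · apply hb₀1; rw [← hj, e, one_zpow]
    · rw [e] at hj
      rcases Int.even_or_odd' j with ⟨i, hi | hi⟩
      · apply hb₀1
        rw [← hj, hi, zpow_mul, zpow_ofNat, pow_two, h.zz, one_zpow]
      · apply hb₀z
        rw [← hj, hi, zpow_add, zpow_mul, zpow_ofNat, pow_two, h.zz, one_zpow, one_mul, zpow_one]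
  -- `v² ≠ 1`
  have hvv : v * v ≠ 1 := by
    intro h1
    -- `y` centralises `v`
    have h2 : y * v * y⁻¹ ∈ B := by
      by_contra h3
      have h4 := hidxB _ (h.nor y hvF) y hyF h3 hyB
      have h5 : (y * v * y⁻¹)⁻¹ * y = y * v⁻¹ := by group
      rw [h5] at h4
      have h6 := mul_mem h4 hvB
      rw [inv_mul_cancel_right] at h6
      exact hyB h6
    rw [hBv] at h2
    obtain ⟨j, hj⟩ := mem_zpowers_iff.1 h2
    have h3 : y * v * y⁻¹ = v := by
      rcases Int.even_or_odd' j with ⟨i, hi | hi⟩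
      · exfalso
        rw [hi, zpow_mul, zpow_ofNat, pow_two, h1, one_zpow] at hj
        apply hvne
        left
        have := hj.symm
        rw [mul_inv_eq_one, mul_eq_left] at this
        exact this
      · rw [hi, zpow_add, zpow_mul, zpow_ofNat, pow_two, h1, one_zpow, one_mul, zpow_one] at hj
        exact hj.symm
    exact hvne (fact2 v hvA y hyP hyA (mul_inv_eq_iff_eq_mul.1 h3).symm)
  have hk2 : 2 ≤ k := by
    by_contra hlt
    have h1 : orderOf v ∣ 2 := by
      rw [hk]
      calc 2 ^ k ∣ 2 ^ 1 := Nat.pow_dvd_pow 2 (by omega)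
        _ = 2 := pow_one 2
    have h2 := orderOf_dvd_iff_pow_eq_one.1 h1
    rw [pow_two] at h2
    exact hvv h2
  obtain ⟨m, hm⟩ : ∃ m, k = m + 2 := ⟨k - 2, by omega⟩
  have hvm : orderOf v = 4 * 2 ^ m := by rw [hk, hm, pow_add, mul_comm]; norm_num
  -- the element `u` of order `4`
  set u : C := v ^ 2 ^ m with hu
  have huv : u ∈ zpowers v := pow_mem (mem_zpowers v) _
  have huB : u ∈ B := by rw [hBv]; exact huv
  have hu4 : u ^ 4 = 1 := by
    rw [hu, ← pow_mul, mul_comm, ← hvm, pow_orderOf_eq_one]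
  have huu1 : u * u ≠ 1 := by
    intro h1
    have h2 : v ^ (2 ^ m * 2) = 1 := by rw [pow_mul, ← hu, pow_two, h1]
    have h3 := Nat.le_of_dvd (by positivity) (orderOf_dvd_of_pow_eq_one h2)
    rw [hvm] at h3
    have : 0 < 2 ^ m := by positivity
    omega
  have hune : ¬ (u = 1 ∨ u = z) := by
    rintro (e | e)
    · exact huu1 (by rw [e, one_mul])
    · exact huu1 (by rw [e, h.zz])
  -- `u² = z`; an element of `P - A` normalising `⟨v⟩` inverts `u`
  have inv_u : ∀ x ∈ P, x ∉ zpowers w → x * u * x⁻¹ ∈ zpowers v → x * u * x⁻¹ = u⁻¹ := by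
    intro x hx hxA hxu
    have h4 : (x * u * x⁻¹) ^ 4 = 1 := by
      rw [← MulAut.conj_apply, ← map_pow, hu4, map_one]
    rcases cyc_four hvm hu hxu h4 with e | e | e | e
    · exfalso
      apply hune
      left
      rw [mul_inv_eq_one, mul_eq_left] at e
      exact e
    · exact absurd (fact2 u huB.2 x hx hxA (mul_inv_eq_iff_eq_mul.1 e).symm) hune
    · exfalso
      have h5 : (x * u * x⁻¹) * (x * u * x⁻¹) = 1 := by
        rw [e]
        calc u * u * (u * u) = u ^ 4 := by simp only [pow_succ, pow_zero, one_mul, mul_assoc]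
          _ = 1 := hu4
      have h6 : x * (u * u) * x⁻¹ = 1 := by rw [← h5]; group
      rw [mul_inv_eq_one, mul_eq_left] at h6
      exact huu1 h6
    · exact e
  have hyu : y * u * y⁻¹ ∈ zpowers v := by
    rw [← hBv]
    by_contra h3
    have h4 := hidxB _ (h.nor y huB.1) y hyF h3 hyB
    have h5 : (y * u * y⁻¹)⁻¹ * y = y * u⁻¹ := by group
    rw [h5] at h4
    have h6 := mul_mem h4 huB
    rw [inv_mul_cancel_right] at h6
    exact hyB h6
  have hyu' := inv_u y hyP hyA hyu
  have huu : u * u = z := by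
    refine (fact2 (u * u) (mul_mem huB.2 huB.2) y hyP hyA ?_).resolve_left huu1
    have h1 : y * (u * u) * y⁻¹ = u * u := by
      calc y * (u * u) * y⁻¹ = (y * u * y⁻¹) * (y * u * y⁻¹) := by group
        _ = u⁻¹ * u⁻¹ := by rw [hyu']
        _ = (u * u) * (u ^ 4)⁻¹ := by group
        _ = u * u := by rw [hu4, inv_one, mul_one]
    exact (mul_inv_eq_iff_eq_mul.1 h1).symm
  rcases Nat.eq_zero_or_pos m with hm0 | hm0
  · -- `|F| = 8`
    have hvu : v = u := by rw [hu, hm0, pow_zero, pow_one]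
    have hBu : B = zpowers u := by rw [hBv, hvu]
    have hcardB : Nat.card B = 4 := by
      rw [hBv, Nat.card_zpowers, hvm, hm0]; norm_num
    have hcardF : Nat.card F = 8 := by
      have h1 : (B.subgroupOf F).index = 2 := by
        rw [index_eq_two_iff]
        refine ⟨⟨y, hyF⟩, fun x => ?_⟩
        by_cases hxB : (x : C) ∈ B
        · right
          refine ⟨?_, ?_⟩
          · exact hxB
          · intro h2
            have h3 : (x : C) * y ∈ B := h2
            exact hyB ((mul_mem_cancel_left hxB).1 h3)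
        · left
          refine ⟨?_, ?_⟩
          · show (x : C) * y ∈ B
            have h2 := hidxB _ (inv_mem x.2) y hyF (fun h3 => hxB (by simpa using inv_mem h3)) hyB
            rwa [inv_inv] at h2
          · exact hxB
      have h2 := card_mul_index (B.subgroupOf F)
      rw [h1, Nat.card_congr (subgroupOfEquivOfLe hBF).toEquiv, hcardB] at h2
      omega
    rcases fact1 y hyP hyA with hyy | hyy
    · -- dihedral
      right; right; left
      -- the elements of `F - B` are involutions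
      have hinv : ∀ x ∈ F, x ∉ B → x * x = 1 := by
        intro x hx hxB
        have h1 := hidxB y hyF x hx hyB hxB
        set b := y⁻¹ * x with hb
        have hyi : y⁻¹ = y := inv_eq_of_mul_eq_one_right hyy
        have h2 : y * b * y⁻¹ = b⁻¹ := by
          rw [hBu] at h1
          obtain ⟨j, hj⟩ := mem_zpowers_iff.1 h1
          rw [← hj, ← MulAut.conj_apply, map_zpow, MulAut.conj_apply, hyu', inv_zpow]
        have h3 : x = y * b := by rw [hb]; group
        calc x * x = y * b * y⁻¹ * (y * y) * b := by rw [h3]; group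
          _ = 1 := by rw [h2, hyy]; group
      have hBn : ∀ g : C, ∀ x ∈ B, g * x * g⁻¹ ∈ B := by
        have hug : ∀ g : C, g * u * g⁻¹ ∈ B := by
          intro g
          by_contra h1
          have h2 := hinv _ (h.nor g huB.1) h1
          have h3 : g * (u * u) * g⁻¹ = 1 := by rw [← h2]; group
          rw [mul_inv_eq_one, mul_eq_left] at h3
          exact huu1 h3
        intro g x hx
        rw [hBu] at hx
        obtain ⟨j, rfl⟩ := mem_zpowers_iff.1 hx
        rw [← MulAut.conj_apply, map_zpow, MulAut.conj_apply]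
        exact zpow_mem (hug g) j
      have hC : IsPGroup 2 C := isPGroup_of h.pF h.cF hBF hBcyc hBn (fun g x hx => h.nor g hx) hidxB
      have htop := h.max hC
      have hcF : c ∈ F := by rw [htop]; exact mem_top c
      have hcB : c ∈ B := by
        by_contra h1
        have h2 := hinv c hcF h1
        rw [h.cc] at h2
        exact h.z1 h2
      have hBc : B = zpowers c := by
        symm
        apply Subgroup.eq_of_le_of_card_ge (by rw [zpowers_le]; exact hcB)
        rw [hcardB, Nat.card_zpowers, hc4]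
      refine ⟨?_, y, hyy, ?_, fun f => ?_⟩
      · rw [← hcardF, htop]
        exact (Nat.card_congr Subgroup.topEquiv.toEquiv).symm
      · rw [hBu] at hcB
        obtain ⟨j, hj⟩ := mem_zpowers_iff.1 hcB
        rw [← hj, ← MulAut.conj_apply, map_zpow, MulAut.conj_apply, hyu', inv_zpow]
      · by_cases hf : f ∈ B
        · left; rw [← hBc]; exact hf
        · right
          have h1 := hidxB y hyF f (by rw [htop]; exact mem_top f) hyB hf
          rwa [inv_eq_of_mul_eq_one_right hyy, hBc] at h1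
    · -- quaternion
      right; left
      refine ⟨?_, hcardF, ?_⟩
      · rw [← huu]; exact mul_mem huB.1 huB.1
      · refine Cfsg.Agent.Lib.DihedralRecog.subgroup_quaternion_of_generators (m := 2) (by norm_num) F u y huB.1 hyF ?_
          ?_ hyu' ?_ (by rw [hcardF])
        · rw [← hvu, hvm, hm0]; norm_num
        · rw [hyy, pow_two, huu]
        · rw [← hBu]; exact hyB
  · -- `|F| ≥ 16`
    right; right; right
    -- an element of `F` of order `≥ 8` is in `A`
    have hbig : ∀ x ∈ F, orderOf x = orderOf v → x ∈ B := by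
      intro x hx hxo
      by_contra h1
      have h2 : x ^ 4 = 1 := by
        rcases fact1 x (hFP hx) (fun h3 => h1 ⟨hx, h3⟩) with e | e
        · calc x ^ 4 = (x * x) * (x * x) := by simp only [pow_succ, pow_zero, one_mul, mul_assoc]
            _ = 1 := by rw [e, one_mul]
        · calc x ^ 4 = (x * x) * (x * x) := by simp only [pow_succ, pow_zero, one_mul, mul_assoc]
            _ = 1 := by rw [e, h.zz]
      have h3 := Nat.le_of_dvd (by norm_num) (orderOf_dvd_of_pow_eq_one h2)
      rw [hxo, hvm] at h3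
      have : 2 ≤ 2 ^ m := by
        calc 2 = 2 ^ 1 := (pow_one 2).symm
          _ ≤ 2 ^ m := Nat.pow_le_pow_right (by norm_num) hm0
      omega
    have hα : ∀ α : MulAut C, α v ∈ B := fun α => hbig _ (h.char α v hvF) (orderOf_injective α.toMonoidHom α.injective v)
    have hBα : ∀ α : MulAut C, ∀ x ∈ B, α x ∈ B := by
      intro α x hx
      rw [hBv] at hx
      obtain ⟨j, rfl⟩ := mem_zpowers_iff.1 hx
      rw [map_zpow]
      exact zpow_mem (hα α) j
    have hC : IsPGroup 2 C := isPGroup_of h.pF h.cF hBF hBcyc (fun g x hx => hBα (MulAut.conj g) x hx)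
      (fun g x hx => h.nor g hx) hidxB
    have htop := h.max hC
    have hcF : c ∈ F := by rw [htop]; exact mem_top c
    have hcA : c ∉ zpowers w := by
      intro h1
      have h2 := h.self w (hAA w (mem_zpowers w) c h1)
      obtain ⟨j, hj⟩ := mem_zpowers_iff.1 h2
      have h3 : w ^ 4 = 1 := by
        rw [← hj, ← zpow_natCast, ← zpow_mul, mul_comm, zpow_mul, zpow_natCast, ← hc4, pow_orderOf_eq_one, one_zpow]
      have h4 : v ^ 4 = 1 := by
        obtain ⟨i, hi⟩ := mem_zpowers_iff.1 hvA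
        rw [← hi, ← zpow_natCast, ← zpow_mul, mul_comm, zpow_mul, zpow_natCast, h3, one_zpow]
      have h5 := Nat.le_of_dvd (by norm_num) (orderOf_dvd_of_pow_eq_one h4)
      rw [hvm] at h5
      have : 2 ≤ 2 ^ m := by
        calc 2 = 2 ^ 1 := (pow_one 2).symm
          _ ≤ 2 ^ m := Nat.pow_le_pow_right (by norm_num) hm0
      omega
    refine ⟨u, huu, inv_u c hcP hcA ?_, fun α => ?_⟩
    · rw [← hBv]
      exact hBα (MulAut.conj c) u huB
    · have h1 : α u ∈ zpowers v := by rw [← hBv]; exact hBα α u huB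
      have h4 : (α u) ^ 4 = 1 := by rw [← map_pow, hu4, map_one]
      rcases cyc_four hvm hu h1 h4 with e | e | e | e
      · exfalso
        apply hune
        left
        exact (map_eq_one_iff α α.injective).1 e
      · exact Or.inl e
      · exfalso
        have h5 : α (u * u) = 1 := by
          rw [map_mul, e]
          calc u * u * (u * u) = u ^ 4 := by simp only [pow_succ, pow_zero, one_mul, mul_assoc]
            _ = 1 := hu4
        exact huu1 ((map_eq_one_iff α α.injective).1 h5)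
      · exact Or.inr e

end Cfsg.Agent.OddHalf.D6.QThree.NIB.MaxCls

end

-- merged: Cfsg.Agent.OddHalf.D6.QThree.NIB.Dir
section

/-!
# ODD half, D6, `q = 3`, NI with `B`: the case `R ≤ M` (text of helper801, bb #14694, (5.1), (5.2))

`X = C_G(z)`, `M` a component containing `Q₁` and `Q₂`. `normal`: `M` is normal in `X` (given (L-balance) `grow`);
`main`: one of
* (`CA`) some component has `z` as its only involution;
* `t ∉ M C(M)`;
* `C(M) = ⟨c⟩`, of order two or four;
* `C(M)` has a normal quaternion subgroup of order eight which contains its centralizer in `C(M)`;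
* `DE`: `C(M) = ⟨c, x⟩` is a dihedral group of order eight, `t = m c`, `m ∈ M`.
-/

set_option autoImplicit false

namespace Cfsg.Agent.OddHalf.D6.QThree.NIB.Dir

open Subgroup Cfsg
open Cfsg.Agent.SignalizersComponents.Components
open Cfsg.Agent.Cit (cj mem_cj conj_mem_cj cj_mul cj_one)
open Cfsg.Agent.OddHalf.D6.QThree.NISide
open Cfsg.Agent.OddHalf.D6.QThree.NI (exists_lam isPGroup_zp)
open Cfsg.Agent.OddHalf.D6.QThree.NI.Hyp (CA)
open Cfsg.Agent.OddHalf.D6.QThree.NIB.MaxCls

variable {X : Type*} [Group X] {z t a₁ a₂ : X} {Q₁ Q₂ : Subgroup X}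

/-- a component is not centralised by `t` -/
theorem not_le [Finite X] (h : HypB z t a₁ a₂ Q₁ Q₂) {M : Subgroup X} (hM : IsQuasisimple M)
    (hMt : ∀ x ∈ M, x * t = t * x) : False := by
  apply quasisimple_not_isSolvable hM
  have h1 : M ≤ centralizer ({t} : Set X) := fun x hx => mem_centralizer_singleton_iff.2 (hMt x hx)
  have := h.sol
  exact Group.isSolvable_of_isSolvable_injective (f := inclusion h1) (inclusion_injective h1)

/-- `t` normalises every component -/
theorem cj_t [Finite X] (h : HypB z t a₁ a₂ Q₁ Q₂) {M : Subgroup X} (hM : IsComponent M) : cj t M = M := by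
  by_contra hne
  obtain ⟨D, hD1, -, -, hD3, -⟩ := Cfsg.Agent.Cit.Comp.exists_diag hM h.tt hne
  exact not_le h hD3 fun x hx => mem_centralizer_singleton_iff.1 (hD1 hx)

/-- an element of `C(M)` in `⟨t, z⟩` -/
theorem two_of_four [Finite X] (h : HypB z t a₁ a₂ Q₁ Q₂) {M : Subgroup X} (hM : IsComponent M) {y : X}
    (hy : ∀ x ∈ M, y * x = x * y) (hF : T4 z t y) : y = 1 ∨ y = z := by
  rcases hF with e | e | e | e
  · exact Or.inl e
  · exact Or.inr e
  · exfalso
    apply not_le h hM.2
    intro x hx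
    rw [← e]; exact (hy x hx).symm
  · exfalso
    apply not_le h hM.2
    intro x hx
    have e' : t = y * z := by rw [e, mul_assoc, h.zz, mul_one]
    rw [e']
    calc x * (y * z) = (x * y) * z := (mul_assoc _ _ _).symm
      _ = y * (x * z) := by rw [← hy x hx, mul_assoc]
      _ = y * z * x := by rw [h.zc x, mul_assoc]

/-- the elements of `C(M) ∩ C(t)` -/
theorem cent [Finite X] (h : HypB z t a₁ a₂ Q₁ Q₂) {M : Subgroup X} (hM : IsComponent M) (h1 : Q₁ ≤ M) (h2 : Q₂ ≤ M)
    {y : X} (hy : ∀ x ∈ M, y * x = x * y) (hyt : y * t = t * y) :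
    (y = 1 ∨ y = z) ∨ (y * y = z ∧ Bt t Q₁ Q₂ y ∧ ¬ T4 z t y) := by
  have hB : Bt t Q₁ Q₂ y := ⟨hyt, fun q hq => hy q (h1 hq), fun q hq => hy q (h2 hq)⟩
  by_cases hF : T4 z t y
  · exact Or.inl (two_of_four h hM hy hF)
  right
  refine ⟨?_, hB, hF⟩
  have hyy : ∀ x ∈ M, (y * y) * x = x * (y * y) := fun x hx => by
    rw [mul_assoc, hy x hx, ← mul_assoc, hy x hx, mul_assoc]
  rcases two_of_four h hM hyy (h.Bsq y hB) with e | e
  · exact absurd hy (h.refl y ⟨hB, e, hF⟩ M hM (Or.inl h1))
  · exact e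

/-- `M` is normal -/
theorem normal [Finite X] (_h : HypB z t a₁ a₂ Q₁ Q₂) {M : Subgroup X} (hM : IsComponent M) (h1 : Q₁ ≤ M) (h2 : Q₂ ≤ M)
    (grow : ∀ L : Subgroup X, IsComponent L → (∀ m ∈ L, ∀ x ∈ Q₁, m * x = x * m) →
      (∀ m ∈ L, ∀ x ∈ Q₂, m * x = x * m) → ∃ L' : Subgroup X, IsComponent L' ∧ Nat.card L < Nat.card L') : M.Normal := by
  have key : ∀ n : ℕ, ∀ L : Subgroup X, IsComponent L → L ≠ M → Nat.card X ≤ Nat.card L + n →
      Nat.card L < Nat.card M := by
    intro n
    induction n with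
    | zero =>
      intro L hL hne hc
      obtain ⟨L', -, hlt⟩ := grow L hL
        (fun m hm x hx => Cfsg.Agent.Cit.Comp.comm_of_ne hL hM hne hm (h1 hx))
        (fun m hm x hx => Cfsg.Agent.Cit.Comp.comm_of_ne hL hM hne hm (h2 hx))
      have := card_le_card_group L'
      omega
    | succ n ih =>
      intro L hL hne hc
      obtain ⟨L', hL', hlt⟩ := grow L hL
        (fun m hm x hx => Cfsg.Agent.Cit.Comp.comm_of_ne hL hM hne hm (h1 hx))
        (fun m hm x hx => Cfsg.Agent.Cit.Comp.comm_of_ne hL hM hne hm (h2 hx))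
      by_cases he : L' = M
      · rw [← he]; exact hlt
      · exact hlt.trans (ih L' hL' he (by omega))
  have hcj : ∀ g : X, cj g M = M := by
    intro g
    by_contra hne
    have h3 := key (Nat.card X) (cj g M) (Cfsg.Agent.Cit.Comp.isComponent_cj hM g) hne (by omega)
    have h4 : Nat.card (cj g M) = Nat.card M := Nat.card_congr (M.equivMapOfInjective (MulAut.conj g).toMonoidHom
      (MulAut.conj g).injective).toEquiv.symm
    omega
  refine ⟨fun m hm g => ?_⟩
  have h5 := conj_mem_cj (g := g) hm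
  rwa [hcj g] at h5

/-- the dihedral case -/
structure DE (z t : X) (Q₁ Q₂ M : Subgroup X) (m c x : X) : Prop where
  mM : m ∈ M
  mm : m * m = z
  Bm : Bt t Q₁ Q₂ m
  nm : ¬ T4 z t m
  cM : ∀ y ∈ M, c * y = y * c
  xM : ∀ y ∈ M, x * y = y * x
  cc : c * c = z
  xx : x * x = 1
  cx : c * x * c⁻¹ = x * z
  tmc : t = m * c
  /-- the elements of `C(M)` -/
  el : ∀ f : X, (∀ y ∈ M, f * y = y * f) →
    f = 1 ∨ f = z ∨ f = c ∨ f = c * z ∨ f = x ∨ f = x * z ∨ f = c * x ∨ f = c * x * z

/-- the elements of `⟨c⟩`, `c² = z` -/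
theorem mem_zp {c f : X} (cc : c * c = z) (zz : z * z = 1) (hf : f ∈ zpowers c) : f = 1 ∨ f = z ∨ f = c ∨ f = c * z := by
  obtain ⟨k, rfl⟩ := mem_zpowers_iff.1 hf
  have h4 : c ^ (4 : ℤ) = 1 := by
    rw [show (4 : ℤ) = 2 * 2 from rfl, zpow_mul, zpow_ofNat, zpow_ofNat, pow_two c, cc, pow_two, zz]
  have h6 : c ^ k = c ^ (k % 4) := by
    conv_lhs => rw [← Int.emod_add_mul_ediv k 4]
    rw [zpow_add, zpow_mul, h4, one_zpow, mul_one]
  rw [h6]
  have h7 : k % 4 = 0 ∨ k % 4 = 1 ∨ k % 4 = 2 ∨ k % 4 = 3 := by omega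
  rcases h7 with h | h | h | h
  · left; rw [h, zpow_zero]
  · right; right; left; rw [h, zpow_one]
  · right; left; rw [h, zpow_ofNat, pow_two, cc]
  · right; right; right
    rw [h, zpow_ofNat, pow_succ', pow_two, cc]

/-- a homomorphism to `{±1}` -/
theorem no_lam (h : HypB z t a₁ a₂ Q₁ Q₂) (lam : X →* ℤˣ) : lam t ≠ -1 := by
  intro hl
  have h1 : commutator X ≤ lam.ker := Abelianization.commutator_subset_ker lam
  have h2 : lam t = 1 := h1 h.com
  rw [h2] at hl
  exact absurd hl (by decide)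

/-- the element `c` of `C(M)`: `t = m c`, `C_{C(M)}(c) = ⟨c⟩` -/
theorem split [Finite X] (h : HypB z t a₁ a₂ Q₁ Q₂) {M : Subgroup X} (hM : IsComponent M) (h1 : Q₁ ≤ M) (h2 : Q₂ ≤ M)
    (htM : t ∈ M ⊔ centralizer (M : Set X)) :
    (t ∈ M ∧ ∃ c, (c = z ∨ c * c = z) ∧ ∀ f : X, (∀ y ∈ M, f * y = y * f) → f ∈ zpowers c) ∨
    ∃ m c, m ∈ M ∧ m * m = z ∧ Bt t Q₁ Q₂ m ∧ ¬ T4 z t m ∧ (∀ y ∈ M, c * y = y * c) ∧ c * c = z ∧ t = m * c ∧
      ∀ f : X, (∀ y ∈ M, f * y = y * f) → f * c = c * f → f ∈ zpowers c := by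
  have hMY : ∀ x ∈ M, ∀ y ∈ centralizer (M : Set X), x * y = y * x := fun x hx y hy =>
    mem_centralizer_iff.1 hy x hx
  obtain ⟨m, hm, c, hc, hmc⟩ := Cfsg.Agent.Cit.Comp.mem_sup_comm hMY htM
  have mc : Commute m c := hMY m hm c hc
  have hcM : ∀ y ∈ M, c * y = y * c := fun y hy => (hMY y hy c hc).symm
  have hm' : m = t * c⁻¹ := by rw [← hmc, mul_inv_cancel_right]
  have hmt : m * t = t * m := by rw [← hmc, mul_assoc, mc.eq]
  have hct : c * t = t * c := by
    rw [← hmc]
    calc c * (m * c) = (c * m) * c := (mul_assoc _ _ _).symm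
      _ = m * c * c := by rw [mc.eq]
  have key : ∀ r ∈ M, r * t = t * r → m * r = r * m := by
    intro r hr hrt
    have h2 : Commute r c := hMY r hr c hc
    have h3 : Commute r t := hrt
    have h4 : Commute r m := by rw [hm']; exact h3.mul_right h2.inv_right
    exact h4.symm.eq
  have hBm : Bt t Q₁ Q₂ m := ⟨hmt, fun q hq => key q (h1 hq) (h.s₁.ct q hq), fun q hq => key q (h2 hq) (h.s₂.ct q hq)⟩
  have hzM : z ∈ M := h1 h.s₁.zQ
  -- the elements of `C(M) ∩ C(t)` with square `z`
  have uniq : ∀ y y' : X, (∀ x ∈ M, y * x = x * y) → (∀ x ∈ M, y' * x = x * y') → Bt t Q₁ Q₂ y → Bt t Q₁ Q₂ y' →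
      y * y = z → y' * y' = z → y' ∈ zpowers y := by
    intro y y' hy hy' hB hB' hyy hyy'
    have h3 := h.Bu y y' hB hB' hyy hyy'
    have h4 : ∀ x ∈ M, (y⁻¹ * y') * x = x * (y⁻¹ * y') := by
      intro x hx
      have c1 : Commute y x := hy x hx
      have c2 : Commute y' x := hy' x hx
      exact (c1.inv_left.mul_left c2).eq
    have hyz : z ∈ zpowers y := by rw [← hyy]; exact mul_mem (mem_zpowers y) (mem_zpowers y)
    have e : y' = y * (y⁻¹ * y') := by group
    rw [e]
    refine mul_mem (mem_zpowers y) ?_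
    rcases two_of_four h hM h4 h3 with h5 | h5
    · rw [h5]; exact one_mem _
    · rw [h5]; exact hyz
  by_cases hF : T4 z t m
  · -- `t ∈ M`
    left
    have htM' : t ∈ M := by
      rcases hF with e | e | e | e
      · exfalso
        apply not_le h hM.2
        intro x hx
        rw [← hmc, e, one_mul]; exact (hcM x hx).symm
      · exfalso
        apply not_le h hM.2
        intro x hx
        have c1 : Commute x c := (hcM x hx).symm
        have c2 : Commute x z := h.zc x
        rw [← hmc, e]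
        exact (c2.mul_right c1).eq
      · rw [← e]; exact hm
      · have : t = m * z := by rw [e, mul_assoc, h.zz, mul_one]
        rw [this]; exact M.mul_mem hm hzM
    refine ⟨htM', ?_⟩
    have hY : ∀ f : X, (∀ y ∈ M, f * y = y * f) → (f = 1 ∨ f = z) ∨ (f * f = z ∧ Bt t Q₁ Q₂ f ∧ ¬ T4 z t f) :=
      fun f hf => cent h hM h1 h2 hf (hf t htM')
    by_cases hex : ∃ c, (∀ y ∈ M, c * y = y * c) ∧ c * c = z ∧ Bt t Q₁ Q₂ c
    · obtain ⟨c, hc1, hc2, hc3⟩ := hex
      refine ⟨c, Or.inr hc2, fun f hf => ?_⟩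
      have hzc : z ∈ zpowers c := by rw [← hc2]; exact mul_mem (mem_zpowers c) (mem_zpowers c)
      rcases hY f hf with (e | e) | ⟨e, hB, -⟩
      · rw [e]; exact one_mem _
      · rw [e]; exact hzc
      · exact uniq c f hc1 hf hc3 hB hc2 e
    · refine ⟨z, Or.inl rfl, fun f hf => ?_⟩
      rcases hY f hf with (e | e) | ⟨e, hB, -⟩
      · rw [e]; exact one_mem _
      · rw [e]; exact mem_zpowers z
      · exact absurd ⟨f, hf, e, hB⟩ hex
  · right
    -- `m² ∈ ⟨z⟩`
    have hcc' : c * c = (m * m)⁻¹ := by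
      have h3 : (m * c) * (m * c) = 1 := by rw [hmc, h.tt]
      have h4 : (m * m) * (c * c) = 1 := by
        rw [← h3]
        calc m * m * (c * c) = m * (m * c) * c := by group
          _ = m * (c * m) * c := by rw [mc.eq]
          _ = m * c * (m * c) := by group
      exact eq_inv_of_mul_eq_one_right h4
    have hmmM : ∀ x ∈ M, (m * m) * x = x * (m * m) := by
      intro x hx
      have h3 : m * m = (c * c)⁻¹ := by rw [hcc', inv_inv]
      have c1 : Commute c x := hcM x hx
      rw [h3]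
      exact ((c1.mul_left c1).inv_left).eq
    have hBc : Bt t Q₁ Q₂ c := ⟨hct, fun q hq => hcM q (h1 hq), fun q hq => hcM q (h2 hq)⟩
    have hmm : m * m = z := by
      rcases two_of_four h hM hmmM (h.Bsq m hBm) with e | e
      · exfalso
        -- `c` is a reflection
        have hc1 : c * c = 1 := by rw [hcc', e, inv_one]
        refine h.refl c ⟨hBc, hc1, fun h5 => hF ?_⟩ M hM (Or.inl h1) hcM
        have hci : c⁻¹ = c := inv_eq_of_mul_eq_one_right hc1
        have hm2 : m = t * c := by rw [hm', hci]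
        rcases h5 with e | e | e | e
        · right; right; left; rw [hm2, e, mul_one]
        · right; right; right; rw [hm2, e]
        · left; rw [hm2, e, h.tt]
        · right; left; rw [hm2, e, ← mul_assoc, h.tt, one_mul]
      · exact e
    have hcc : c * c = z := by rw [hcc', hmm, inv_eq_of_mul_eq_one_right h.zz]
    refine ⟨m, c, hm, hmm, hBm, hF, hcM, hcc, hmc.symm, fun f hf hfc => ?_⟩
    have hzc : z ∈ zpowers c := by rw [← hcc]; exact mul_mem (mem_zpowers c) (mem_zpowers c)
    have hft : f * t = t * f := by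
      have c1 : Commute f m := hf m hm
      have c2 : Commute f c := hfc
      rw [← hmc]
      exact (c1.mul_right c2).eq
    rcases cent h hM h1 h2 hf hft with (e | e) | ⟨e, hB, -⟩
    · rw [e]; exact one_mem _
    · rw [e]; exact hzc
    · exact uniq c f hcM hf hBc hB hcc e

/-- a cyclic group has at most one involution -/
theorem inv_unique {v x y : X} (hx : x ∈ zpowers v) (hy : y ∈ zpowers v) (xx : x * x = 1) (yy : y * y = 1)
    (x1 : x ≠ 1) (y1 : y ≠ 1) : x = y := by
  obtain ⟨i, rfl⟩ := mem_zpowers_iff.1 hx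
  obtain ⟨j, rfl⟩ := mem_zpowers_iff.1 hy
  have hd : ∀ k : ℤ, v ^ k = 1 ↔ (orderOf v : ℤ) ∣ k := fun k => orderOf_dvd_iff_zpow_eq_one.symm
  rw [← zpow_add, hd] at xx yy
  rw [Ne, hd] at x1 y1
  obtain ⟨a, ha⟩ := xx
  obtain ⟨b, hb⟩ := yy
  have hao : ¬ Even a := by
    rintro ⟨e, he⟩
    apply x1
    refine ⟨e, ?_⟩
    rw [he, mul_add] at ha
    omega
  have hbo : ¬ Even b := by
    rintro ⟨e, he⟩
    apply y1
    refine ⟨e, ?_⟩
    rw [he, mul_add] at hb
    omega
  rw [Int.not_even_iff_odd] at hao hbo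
  obtain ⟨e, he⟩ := (hao.sub_odd hbo)
  have h1 : v ^ (i - j) = 1 := by
    rw [hd]
    refine ⟨e, ?_⟩
    have h2 : (orderOf v : ℤ) * (a - b) = (orderOf v : ℤ) * e + (orderOf v : ℤ) * e := by rw [he, mul_add]
    rw [mul_sub, ← ha, ← hb] at h2
    omega
  rw [zpow_sub, mul_inv_eq_one] at h1
  exact h1

/-- a component with an element `c`, `c² = z`, `C(c) = ⟨c⟩`: `z` is its only involution -/
theorem comp_unique {C : Type*} [Group C] [Finite C] {c z : C} (h : Self c z) {N : Subgroup C} (hN : IsComponent N) :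
    ∀ x ∈ N, x * x = 1 → x = 1 ∨ x = z := by
  have : Fact (Nat.Prime 2) := ⟨Nat.prime_two⟩
  have hcp : IsPGroup 2 (zpowers c) := by
    refine IsPGroup.of_card (n := 2) ?_
    rw [Nat.card_zpowers, h.ord]
    norm_num
  obtain ⟨T, hT⟩ := hcp.exists_le_sylow
  have hcT : c ∈ (T : Subgroup C) := hT (mem_zpowers c)
  have hzT : z ∈ (T : Subgroup C) := by rw [← h.cc]; exact mul_mem hcT hcT
  obtain ⟨Q, hQe⟩ := Cfsg.Agent.S0542.result 2 N hN.1 T
  set W : Subgroup C := (T : Subgroup C) ⊓ N with hW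
  have hQW : (Q : Subgroup N) = W.subgroupOf N := by rw [hQe, hW, inf_subgroupOf_right]
  -- it is enough to find a cyclic subgroup which contains `z`
  have key : ∀ v : C, z ∈ zpowers v → W ≤ zpowers v ∨
      (∃ E : Subgroup C, E ≤ W ∧ E ≤ zpowers v ∧ E.relIndex W = 2) → ∀ x ∈ N, x * x = 1 → x = 1 ∨ x = z := by
    intro v hzv hcase u hu huu
    have hconj : ∃ g : N, (g : C) * u * (g : C)⁻¹ ∈ zpowers v := by
      rcases hcase with hW' | ⟨E, hEW, hEv, hEi⟩
      · have hup : IsPGroup 2 (zpowers (⟨u, hu⟩ : N)) := by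
          exact isPGroup_zp (y := (⟨u, hu⟩ : N)) (Subtype.ext huu)
        obtain ⟨P, hP⟩ := hup.exists_le_sylow
        obtain ⟨g, hg⟩ := MulAction.exists_smul_eq N P Q
        refine ⟨g, hW' ?_⟩
        have h1 : g * ⟨u, hu⟩ * g⁻¹ ∈ (Q : Subgroup N) := by
          rw [← hg]
          exact Subgroup.smul_mem_pointwise_smul _ (MulAut.conj g) _ (hP (mem_zpowers _))
        rw [hQW] at h1
        exact h1
      · obtain ⟨g, hg⟩ := CaseM.exists_conj_of_perfect hN.2.1 Q (E.subgroupOf N)
          (by rw [hQW]; exact comap_mono hEW)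
          (by rw [hQW, relIndex_subgroupOf inf_le_right, hEi]) ⟨u, hu⟩ (Subtype.ext huu)
        exact ⟨g, hEv hg⟩
    obtain ⟨g, hg⟩ := hconj
    by_cases hu1 : u = 1
    · exact Or.inl hu1
    right
    have h2 : (g : C) * u * (g : C)⁻¹ = z := by
      refine inv_unique hg hzv ?_ h.zz (fun e => hu1 (conj_eq_one_iff.1 e)) h.z1
      calc (g : C) * u * (g : C)⁻¹ * ((g : C) * u * (g : C)⁻¹) = g * (u * u) * (g : C)⁻¹ := by group
        _ = 1 := by rw [huu, mul_one, mul_inv_cancel]
    have h3 : u = (g : C)⁻¹ * (g * u * (g : C)⁻¹) * g := by group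
    rw [h3, h2, h.zc (g : C)⁻¹, inv_mul_cancel_right]
  rcases h.max_class T.2 hcT with e | ⟨w, hwT, hw4, hidx, hcen⟩
  · refine key c (by rw [← h.cc]; exact mul_mem (mem_zpowers c) (mem_zpowers c)) (Or.inl ?_)
    rw [← e]; exact inf_le_left
  · have hAA : ∀ x ∈ zpowers w, ∀ y ∈ zpowers w, x * y = y * x := by
      intro x hx y hy
      obtain ⟨i, rfl⟩ := mem_zpowers_iff.1 hx
      obtain ⟨j, rfl⟩ := mem_zpowers_iff.1 hy
      rw [← zpow_add, ← zpow_add, add_comm]
    have hzw : z ∈ zpowers w := by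
      by_contra hzA
      have h1 : w = 1 ∨ w = z := by
        refine hcen w hwT fun x hx => ?_
        by_cases hxA : x ∈ zpowers w
        · exact hAA w (mem_zpowers w) x hxA
        · have h1 := hAA w (mem_zpowers w) _ (hidx z hzT x hx hzA hxA)
          calc w * x = (w * z) * (z⁻¹ * x) := by group
            _ = z * (w * (z⁻¹ * x)) := by rw [h.zc w, mul_assoc]
            _ = z * ((z⁻¹ * x) * w) := by rw [h1]
            _ = x * w := by group
      rcases h1 with e | e
      · rw [e, orderOf_one] at hw4; omega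
      · have h1 : orderOf w ∣ 2 := orderOf_dvd_of_pow_eq_one (by rw [pow_two, e, h.zz])
        have := Nat.le_of_dvd (by norm_num) h1
        omega
    refine key w hzw ?_
    by_cases hWw : W ≤ zpowers w
    · exact Or.inl hWw
    · right
      obtain ⟨y, hyW, hyw⟩ := SetLike.not_le_iff_exists.1 hWw
      refine ⟨W ⊓ zpowers w, inf_le_left, inf_le_right, ?_⟩
      have h1 : ((W ⊓ zpowers w).subgroupOf W).index = 2 := by
        rw [index_eq_two_iff]
        refine ⟨⟨y, hyW⟩, fun x => ?_⟩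
        have hyn : y ∉ W ⊓ zpowers w := fun h2 => hyw h2.2
        by_cases hxB : (x : C) ∈ W ⊓ zpowers w
        · right
          refine ⟨hxB, ?_⟩
          intro h2
          have h3 : (x : C) * y ∈ W ⊓ zpowers w := h2
          exact hyn ((mul_mem_cancel_left hxB).1 h3)
        · left
          refine ⟨?_, hxB⟩
          show (x : C) * y ∈ W ⊓ zpowers w
          have hxw : (x : C)⁻¹ ∉ zpowers w := fun h3 => hxB ⟨x.2, by simpa using (zpowers w).inv_mem h3⟩
          have h2 := hidx (x : C)⁻¹ ((T : Subgroup C).inv_mem x.2.1) y hyW.1 hxw hyw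
          rw [inv_inv] at h2
          exact ⟨W.mul_mem x.2 hyW, h2⟩
      exact h1

/-- **the case `R ≤ M`** -/
theorem main [Finite X] (h : HypB z t a₁ a₂ Q₁ Q₂) {M : Subgroup X} (hM : IsComponent M) (h1 : Q₁ ≤ M) (h2 : Q₂ ≤ M)
    (hMn : M.Normal) (htM : t ∈ M ⊔ centralizer (M : Set X)) :
    CA z ∨ (∃ c, (c = z ∨ c * c = z) ∧ ∀ f : X, (∀ y ∈ M, f * y = y * f) → f ∈ zpowers c) ∨
    (∃ Q : Subgroup X, Q.Normal ∧ z ∈ Q ∧ Nat.card Q = 8 ∧ Nonempty (Q ≃* QuaternionGroup 2) ∧
      (∀ q ∈ Q, ∀ y ∈ M, q * y = y * q) ∧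
      ∀ f : X, (∀ y ∈ M, f * y = y * f) → (∀ q ∈ Q, f * q = q * f) → f ∈ Q) ∨
    (∃ m c x, DE z t Q₁ Q₂ M m c x) := by
  have : Fact (Nat.Prime 2) := ⟨Nat.prime_two⟩
  rcases split h hM h1 h2 htM with ⟨-, c, hc, hf⟩ | ⟨m, c, hm, hmm, hBm, hnm, hcM, hcc, htmc, hself⟩
  · exact Or.inr (Or.inl ⟨c, hc, hf⟩)
  have hzM : z ∈ M := h1 h.s₁.zQ
  set Y : Subgroup X := centralizer (M : Set X) with hY
  have hYm : ∀ f : X, f ∈ Y ↔ ∀ y ∈ M, f * y = y * f := by
    intro f
    rw [hY, mem_centralizer_iff]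
    exact ⟨fun h3 y hy => (h3 y hy).symm, fun h3 y hy => (h3 y hy).symm⟩
  have hYn : Y.Normal := by
    refine ⟨fun f hf g => ?_⟩
    rw [hYm] at hf ⊢
    intro y hy
    have h3 : g⁻¹ * y * g ∈ M := by
      have := hMn.conj_mem y hy g⁻¹
      rwa [inv_inv] at this
    have h4 := hf _ h3
    calc g * f * g⁻¹ * y = g * (f * (g⁻¹ * y * g)) * g⁻¹ := by group
      _ = g * ((g⁻¹ * y * g) * f) * g⁻¹ := by rw [h4]
      _ = y * (g * f * g⁻¹) := by group
  have hYs : Y.IsSubnormal := hYn.isSubnormal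
  have hcY : c ∈ Y := (hYm c).2 hcM
  have hzY : z ∈ Y := (hYm z).2 fun y _ => (h.zc y).symm
  have hS : Self (⟨c, hcY⟩ : Y) ⟨z, hzY⟩ :=
    { cc := Subtype.ext hcc
      zz := Subtype.ext h.zz
      z1 := fun e => h.z1 (congrArg Subtype.val e)
      zc := fun x => Subtype.ext (h.zc x)
      self := fun x hx => by
        have h3 := hself x ((hYm x).1 x.2) (congrArg Subtype.val hx)
        obtain ⟨k, hk⟩ := mem_zpowers_iff.1 h3
        exact mem_zpowers_iff.2 ⟨k, Subtype.ext (by rw [← hk]; rfl)⟩ }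
  by_cases hlay : layer Y = ⊥
  swap
  · -- a component of `Y`
    left
    obtain ⟨N, hN⟩ : ∃ N : Subgroup Y, IsComponent N := by
      by_contra hex
      push Not at hex
      apply hlay
      rw [eq_bot_iff, layer_le_iff]
      exact fun K hK => absurd hK (hex K)
    have hN' := isComponent_map_subtype hYs hN
    have hzN := h.zM _ hN'
    obtain ⟨z', hz', hzz'⟩ := hzN
    have hzN : (⟨z, hzY⟩ : Y) ∈ N := by
      have : z' = ⟨z, hzY⟩ := Subtype.ext hzz'
      rwa [this] at hz'
    refine ⟨_, hN', ⟨_, hzN, rfl⟩, ?_⟩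
    rintro _ ⟨x, hx, rfl⟩ hxx
    rcases comp_unique hS hN x hx (Subtype.ext hxx) with e | e
    · left; rw [e]; rfl
    · right; rw [e]; rfl
  right
  have hcore : pPrimeCore 2 Y = ⊥ := by
    have h3 := Cfsg.Agent.SignalizersComponents.CompBasic.map_subtype_pPrimeCore_of_subnormal 2 hYs
    rw [h.O, inf_bot_eq, map_eq_bot_iff_of_injective _ Y.subtype_injective] at h3
    exact h3
  set F : Subgroup Y := pCore 2 Y with hF
  have hFchar : F.Characteristic := Cfsg.Agent.Lib.Cores.pCore_characteristic 2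
  have hFα : ∀ α : MulAut Y, ∀ x ∈ F, α x ∈ F := by
    intro α x hx
    have h3 := (characteristic_iff_map_le.1 hFchar) α
    exact h3 ⟨x, hx, rfl⟩
  -- automorphisms of `Y` induced by `X`
  let cjY : X → MulAut Y := fun g => MulAut.conjNormal g
  have hcjY : ∀ (g : X) (y : Y), ((cjY g y : Y) : X) = g * y * g⁻¹ := fun g y => MulAut.conjNormal_apply g y
  have hR : Rad (⟨c, hcY⟩ : Y) ⟨z, hzY⟩ F :=
    { toSelf := hS
      char := hFα
      pF := Cfsg.Agent.Lib.Cores.pCore_isPGroup 2
      cF := (Cfsg.Agent.SignalizersComponents.PConstrained.centralizer_pCore_le_iff_layer_eq_bot 2 hcore).2 hlay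
      max := fun hp => by
        rw [hF, Cfsg.Agent.Lib.Cores.pCore_eq_top_iff]
        exact hp
      elem := fun hel x hx => by
        have hn : (F.map Y.subtype).Normal := by
          refine ⟨?_⟩
          rintro _ ⟨y, hy, rfl⟩ g
          exact ⟨cjY g y, hFα _ y hy, hcjY g y⟩
        rcases h.elem _ hn (by
            rintro _ ⟨y, hy, rfl⟩
            exact congrArg Subtype.val (hel y hy)) x ⟨x, hx, rfl⟩ with e | e
        · left; exact Subtype.ext e
        · right; exact Subtype.ext e }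
  rcases hR.main with hcyc | ⟨hzF, hF8, ⟨eF⟩⟩ | ⟨h8, x, hxx, hxc, hel⟩ | ⟨u, huu, hcu, hu⟩
  · -- cyclic
    left
    refine ⟨c, Or.inr hcc, fun f hf => ?_⟩
    obtain ⟨k, hk⟩ := mem_zpowers_iff.1 (hcyc ⟨f, (hYm f).2 hf⟩)
    exact mem_zpowers_iff.2 ⟨k, congrArg Subtype.val hk⟩
  · -- quaternion
    right; left
    refine ⟨F.map Y.subtype, ⟨?_⟩, ⟨_, hzF, rfl⟩, ?_, ⟨?_⟩, ?_, ?_⟩
    · rintro _ ⟨y, hy, rfl⟩ g
      exact ⟨cjY g y, hFα _ y hy, hcjY g y⟩
    · rw [← hF8]
      exact Nat.card_congr (F.equivMapOfInjective _ Y.subtype_injective).toEquiv.symm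
    · exact (F.equivMapOfInjective _ Y.subtype_injective).symm.trans eF
    · rintro _ ⟨q, hq, rfl⟩ y hy
      exact (hYm _).1 q.2 y hy
    · intro f hf hfQ
      refine ⟨⟨f, (hYm f).2 hf⟩, hR.cF ?_, rfl⟩
      rw [mem_centralizer_iff]
      intro q hq
      exact Subtype.ext (hfQ q ⟨q, hq, rfl⟩).symm
  · -- dihedral
    right; right
    have hxM : ∀ y ∈ M, (x : X) * y = y * x := (hYm _).1 x.2
    have hxc' : (x : X) * c * (x : X)⁻¹ = c⁻¹ := congrArg Subtype.val hxc
    have hxx' : (x : X) * x = 1 := congrArg Subtype.val hxx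
    have hci : c⁻¹ = c * z := by
      apply inv_eq_of_mul_eq_one_right
      rw [← mul_assoc, hcc, h.zz]
    have hxi : (x : X)⁻¹ = x := inv_eq_of_mul_eq_one_right hxx'
    have hcx : c * x * c⁻¹ = x * z := by
      have h3 : (x : X) * c = c * z * x := by rw [← hci, ← hxc', inv_mul_cancel_right]
      have h4 : c * x = x * z * c := by
        calc c * x = c * z * (z * x) := by
              calc c * x = c * (z * z) * x := by rw [h.zz, mul_one]
                _ = c * z * (z * x) := by group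
          _ = c * z * (x * z) := by rw [← h.zc]
          _ = (c * z * x) * z := by group
          _ = x * c * z := by rw [← h3]
          _ = x * (c * z) := by group
          _ = x * (z * c) := by rw [h.zc c]
          _ = x * z * c := by group
      rw [h4, mul_inv_cancel_right]
    refine ⟨m, c, x, ⟨hm, hmm, hBm, hnm, hcM, hxM, hcc, hxx', hcx, htmc, fun f hf => ?_⟩⟩
    have key : ∀ g : Y, g ∈ zpowers (⟨c, hcY⟩ : Y) → (g : X) = 1 ∨ (g : X) = z ∨ (g : X) = c ∨ (g : X) = c * z := by
      intro g hg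
      obtain ⟨k, hk⟩ := mem_zpowers_iff.1 hg
      exact mem_zp hcc h.zz (mem_zpowers_iff.2 ⟨k, congrArg Subtype.val hk⟩)
    rcases hel ⟨f, (hYm f).2 hf⟩ with h3 | h3
    · rcases key _ h3 with e | e | e | e
      · exact Or.inl e
      · exact Or.inr (Or.inl e)
      · exact Or.inr (Or.inr (Or.inl e))
      · exact Or.inr (Or.inr (Or.inr (Or.inl e)))
    · have hfx : f = x * (x * f) := by rw [← mul_assoc, hxx', one_mul]
      have hxcz : (x : X) * c = c * x * z := by
        have h4 : c * x = x * z * c := by rw [← hcx, inv_mul_cancel_right]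
        rw [h4]
        calc (x : X) * c = x * (z * z) * c := by rw [h.zz, mul_one]
          _ = x * z * (z * c) := by group
          _ = x * z * (c * z) := by rw [← h.zc c]
          _ = x * z * c * z := by group
      have hkey : ((x : X) * f = 1 ∨ (x : X) * f = z ∨ (x : X) * f = c ∨ (x : X) * f = c * z) := key _ h3
      rcases hkey with e | e | e | e
      · right; right; right; right; left
        rw [hfx, e, mul_one]
      · right; right; right; right; right; left
        rw [hfx, e]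
      · right; right; right; right; right; right; right
        rw [hfx, e, hxcz]
      · right; right; right; right; right; right; left
        rw [hfx, e, ← mul_assoc, hxcz, mul_assoc, h.zz, mul_one]
  · -- a sign
    exfalso
    have hui : ∀ w : Y, w = u ∨ w = u⁻¹ → (w : X) = u ∨ (w : X) = u * z := by
      intro w hw
      rcases hw with e | e
      · left; rw [e]
      · right
        rw [e]
        have h3 : (u : X) * u = z := congrArg Subtype.val huu
        show (u : X)⁻¹ = u * z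
        apply inv_eq_of_mul_eq_one_right
        rw [← mul_assoc, h3, h.zz]
    obtain ⟨lam, hlam⟩ := exists_lam (t := t) (c := (u : X)) h.zc h.zz h.z1
      (fun g => by
        have h3 := hui _ (hu (cjY g))
        rwa [hcjY] at h3)
      (by
        have h3 : c * (u : X) * c⁻¹ = (u : X)⁻¹ := congrArg Subtype.val hcu
        have h4 : (u : X) * u = z := congrArg Subtype.val huu
        have hmu : m * (c * (u : X) * c⁻¹) = (c * (u : X) * c⁻¹) * m := by
          have h5 : c * (u : X) * c⁻¹ ∈ Y := mul_mem (mul_mem hcY u.2) (inv_mem hcY)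
          exact ((hYm _).1 h5 m hm).symm
        have h6 : t * (u : X) * t⁻¹ = c * (u : X) * c⁻¹ := by
          rw [htmc]
          calc m * c * (u : X) * (m * c)⁻¹ = m * (c * (u : X) * c⁻¹) * m⁻¹ := by group
            _ = c * (u : X) * c⁻¹ := by rw [hmu, mul_inv_cancel_right]
        rw [h6, h3]
        apply inv_eq_of_mul_eq_one_right
        rw [← mul_assoc, h4, h.zz])
    exact no_lam h lam hlam

end Cfsg.Agent.OddHalf.D6.QThree.NIB.Dir

end
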