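import Cfsg.Agent.OddHalf.D6.QThree.TransferMu
import Cfsg.Agent.OddHalf.D6.QThree.NIB.Dir
import Cfsg.Agent.OddHalf.D3.Plug
import Mathlib.GroupTheory.SpecificGroups.Quaternion
import Mathlib.GroupTheory.Perm.Sign
import Mathlib.GroupTheory.PGroup
import Cfsg.Agent.OddHalf.CaseC.EndComp
import Cfsg.Agent.OddHalf.Front.FE
import Cfsg.Agent.OddHalf.Quat.Tau0
import Cfsg.Agent.OddHalf.Quat.Classical
import Cfsg.Agent.OddHalf.Main
import Cfsg.Agent.S1306
import Cfsg.Agent.OddHalf.D6.QThree.NIB.Alpha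
import Cfsg.Agent.OddHalf.D6.QThree.NIB.Two
import Cfsg.Agent.OddHalf.CaseM.End

-- merged: Cfsg.Agent.OddHalf.D6.QThree.NIB.DEight
section

/-!
# ODD half, D6, `U₄(3)` with an outer part, NI with `B`: the case `C_H(M) = D₈` (helper801's #14694 (5.3))

`H = C_G(z)`, `F = ⟨c, x⟩` a dihedral group of order eight with centre `⟨z⟩`, normal in `H`. If the involutions of
the centre of a Sylow 2-subgroup of `C_H(x)` are `z, x, xz` and no element of `C_G(x)` moves `z` to `zx`, then the
transfer of the sign of `H` on the four noncentral involutions of `F` is `-1` at `x`.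
-/

set_option autoImplicit false

namespace Cfsg.Agent.OddHalf.D6.QThree.NIB.DEight

open MulAction Subgroup

variable {G : Type*} [Group G]

/-! ### Transfer of a sign at an involution with one fixed point -/

/-- `x` an involution of `C(z)`, `D` a 2-group in `C(x) ∩ C(z)` which fixes no conjugate of `z` in `C(x)` but `z` -/
theorem false_of_fixed [Finite G] (hG : ∀ H : Subgroup G, H.index ≠ 2) {z x : G} (xx : x * x = 1)
    (H : Subgroup G) (hH : ∀ y, y ∈ H ↔ y * z = z * y) (φ : H →* ℤˣ) (hx : x ∈ H) (hφ : φ ⟨x, hx⟩ = -1)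
    (D : Subgroup G) (hD : IsPGroup 2 D) (hDx : ∀ d ∈ D, d * x = x * d) (hDz : ∀ d ∈ D, d * z = z * d)
    (hu : ∀ g : G, (∀ d ∈ D, d * (g * z * g⁻¹) = g * z * g⁻¹ * d) → x * (g * z * g⁻¹) = g * z * g⁻¹ * x →
      g * z * g⁻¹ = z) : False := by
  classical
  have hmem : ∀ g y : G, g⁻¹ * y * g ∈ H ↔ y * (g * z * g⁻¹) = g * z * g⁻¹ * y := by
    intro g y
    rw [hH]
    constructor
    · intro h
      calc y * (g * z * g⁻¹) = g * (g⁻¹ * y * g * z) * g⁻¹ := by group
        _ = g * (z * (g⁻¹ * y * g)) * g⁻¹ := by rw [h]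
        _ = g * z * g⁻¹ * y := by group
    · intro h
      calc g⁻¹ * y * g * z = g⁻¹ * (y * (g * z * g⁻¹)) * g := by group
        _ = g⁻¹ * (g * z * g⁻¹ * y) * g := by rw [h]
        _ = z * (g⁻¹ * y * g) := by group
  have hmem' : ∀ g y : G, y • (g : G ⧸ H) = g ↔ y * (g * z * g⁻¹) = g * z * g⁻¹ * y := by
    intro g y
    rw [← hmem]
    show ((y * g : G) : G ⧸ H) = (g : G ⧸ H) ↔ _
    rw [QuotientGroup.eq]
    constructor
    · intro h
      have h1 := H.inv_mem h
      have e : ((y * g)⁻¹ * g)⁻¹ = g⁻¹ * y * g := by group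
      rwa [e] at h1
    · intro h
      have h1 := H.inv_mem h
      have e : (g⁻¹ * y * g)⁻¹ = (y * g)⁻¹ * g := by group
      rwa [e] at h1
  obtain ⟨f, hf, s, hs, htr⟩ := TransferMu.transfer_eq_prod_fixed H φ x (by
    intro g k hk hko h
    have h1 : orderOf x ∣ 2 := orderOf_dvd_of_pow_eq_one (by rw [pow_two, xx])
    have h2 : orderOf x ∣ k := by
      have h3 : k ∣ 2 := hko.trans h1
      have h4 : k ≤ 2 := Nat.le_of_dvd (by norm_num) h3
      have h5 : k = 2 := by omega
      rw [h5]; exact h1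
    have h3 : g⁻¹ * x ^ k * g = 1 := by
      rw [orderOf_dvd_iff_pow_eq_one.1 h2]; group
    have h4 : (⟨g⁻¹ * x ^ k * g, h⟩ : H) = 1 := Subtype.ext h3
    rw [h4, map_one]) D hD hDx
  have hs1 : s = {((1 : G) : G ⧸ H)} := by
    ext q
    rw [hs, Finset.mem_singleton]
    constructor
    · rintro ⟨h1, h2⟩
      obtain ⟨g, rfl⟩ := QuotientGroup.mk_surjective q
      have h3 := hu g (fun d hd => (hmem' g d).1 (h2 d hd)) ((hmem' g x).1 h1)
      have h4 : g ∈ H := by
        rw [hH]
        calc g * z = g * z * g⁻¹ * g := by group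
          _ = z * g := by rw [h3]
      symm
      rw [QuotientGroup.eq, inv_one, one_mul]
      exact h4
    · rintro rfl
      refine ⟨(hmem' 1 x).2 ?_, fun d hd => (hmem' 1 d).2 ?_⟩
      · rw [one_mul, inv_one, mul_one]; exact (hH x).1 hx
      · rw [one_mul, inv_one, mul_one]; exact hDz d hd
  have h1 : MonoidHom.transfer φ x = -1 := by
    rw [htr, hs1, Finset.prod_singleton]
    have h2 : (1 : G)⁻¹ * x * 1 ∈ H := by rw [inv_one, one_mul, mul_one]; exact hx
    have e : (⟨(1 : G)⁻¹ * x * 1, h2⟩ : H) = ⟨x, hx⟩ := Subtype.ext (by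
      show (1 : G)⁻¹ * x * 1 = x
      group)
    rw [hf 1 h2, e]
    exact hφ
  set τ : G →* ℤˣ := MonoidHom.transfer φ with hτ
  apply hG τ.ker
  rw [Subgroup.index_ker]
  have h2 : τ.range = ⊤ := by
    rw [eq_top_iff]
    intro u _
    rcases Int.units_eq_one_or u with rfl | rfl
    · exact one_mem _
    · exact ⟨x, h1⟩
  rw [h2]
  have h3 : Nat.card (⊤ : Subgroup ℤˣ) = Nat.card ℤˣ := Subgroup.card_top
  rw [h3, Nat.card_eq_fintype_card]
  rfl

/-! ### The sign on the noncentral involutions of `D₈` -/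

/-- the data: `F = ⟨c, x⟩ = D₈` normal in `C(z)` -/
structure Di (z c x : G) (F : Subgroup G) : Prop where
  zz : z * z = 1
  z1 : z ≠ 1
  xx : x * x = 1
  x1 : x ≠ 1
  xz : x ≠ z
  cc : c * c = z
  cx : c * x * c⁻¹ = x * z
  xF : x ∈ F
  cF : c ∈ F
  /-- the eight elements -/
  el : ∀ f ∈ F, f = 1 ∨ f = z ∨ f = c ∨ f = c * z ∨ f = x ∨ f = x * z ∨ f = c * x ∨ f = c * x * z
  /-- `F` is normal in `C(z)` -/
  nor : ∀ h, h * z = z * h → ∀ f ∈ F, h * f * h⁻¹ ∈ F
  Fz : ∀ f ∈ F, f * z = z * f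

namespace Di

variable {z c x : G} {F : Subgroup G}

theorem zinv (d : Di z c x F) : z⁻¹ = z := inv_eq_of_mul_eq_one_right d.zz

theorem zF (d : Di z c x F) : z ∈ F := by rw [← d.cc]; exact F.mul_mem d.cF d.cF

theorem xzc (d : Di z c x F) : x * z = z * x := d.Fz x d.xF

theorem czc (d : Di z c x F) : c * z = z * c := d.Fz c d.cF

theorem cx' (d : Di z c x F) : c * x = x * z * c := by
  have := d.cx
  rwa [mul_inv_eq_iff_eq_mul] at this

/-- `x c x = c z` -/
theorem xcx (d : Di z c x F) : x * c * x = c * z := by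
  calc x * c * x = x * (c * x) := by group
    _ = x * (x * z * c) := by rw [d.cx']
    _ = (x * x) * (z * c) := by group
    _ = c * z := by rw [d.xx, one_mul, d.czc]

/-- the noncentral involutions -/
theorem inv_cases (d : Di z c x F) {f : G} (hf : f ∈ F) (hff : f * f = 1) (h1 : f ≠ 1) (hz : f ≠ z) :
    f = x ∨ f = x * z ∨ f = c * x ∨ f = c * x * z := by
  rcases d.el f hf with h | h | h | h | h | h | h | h
  · exact (h1 h).elim
  · exact (hz h).elim
  · exfalso
    rw [h, d.cc] at hff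
    exact d.z1 hff
  · exfalso
    rw [h] at hff
    have e : c * z * (c * z) = z := by
      calc c * z * (c * z) = c * (z * c) * z := by group
        _ = c * (c * z) * z := by rw [d.czc]
        _ = (c * c) * (z * z) := by group
        _ = z := by rw [d.cc, d.zz, mul_one]
    rw [e] at hff
    exact d.z1 hff
  · exact Or.inl h
  · exact Or.inr (Or.inl h)
  · exact Or.inr (Or.inr (Or.inl h))
  · exact Or.inr (Or.inr (Or.inr h))

theorem cxcx (d : Di z c x F) : c * x * (c * x) = 1 := by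
  calc c * x * (c * x) = c * (x * c * x) := by group
    _ = c * (c * z) := by rw [d.xcx]
    _ = (c * c) * z := by group
    _ = 1 := by rw [d.cc, d.zz]

theorem cx_ne_one (d : Di z c x F) : c * x ≠ 1 := by
  intro h
  have h1 : c = x := by
    calc c = c * x * x := by rw [mul_assoc, d.xx, mul_one]
      _ = x := by rw [h, one_mul]
  have h2 := d.cc
  rw [h1, d.xx] at h2
  exact d.z1 h2.symm

theorem cx_ne_z (d : Di z c x F) : c * x ≠ z := by
  intro h
  have h1 : c = z * x := by
    calc c = c * x * x := by rw [mul_assoc, d.xx, mul_one]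
      _ = z * x := by rw [h]
  have h2 := d.cc
  rw [h1] at h2
  apply d.z1
  rw [← h2]
  calc z * x * (z * x) = z * (x * z) * x := by group
    _ = z * (z * x) * x := by rw [d.xzc]
    _ = (z * z) * (x * x) := by group
    _ = 1 := by rw [d.zz, d.xx, one_mul]

/-- there is a sign -/
theorem exists_sign (d : Di z c x F) [Finite G] :
    ∃ φ : centralizer ({z} : Set G) →* ℤˣ, ∀ hx : x ∈ centralizer ({z} : Set G), φ ⟨x, hx⟩ = -1 := by
  classical
  let Δ : Type _ := {f : G // f ∈ F ∧ f * f = 1 ∧ f ≠ 1 ∧ f ≠ z}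
  have hfin : Fintype Δ := Fintype.ofFinite _
  have hact : ∀ (h : centralizer ({z} : Set G)) (f : Δ), (h : G) * f * (h : G)⁻¹ ∈ F ∧
      ((h : G) * f * (h : G)⁻¹) * ((h : G) * f * (h : G)⁻¹) = 1 ∧ (h : G) * f * (h : G)⁻¹ ≠ 1 ∧
      (h : G) * f * (h : G)⁻¹ ≠ z := by
    rintro ⟨h, hh⟩ ⟨f, hf1, hf2, hf3, hf4⟩
    have hz := mem_centralizer_singleton_iff.1 hh
    refine ⟨d.nor h hz f hf1, ?_, ?_, ?_⟩
    · show h * f * h⁻¹ * (h * f * h⁻¹) = 1
      calc h * f * h⁻¹ * (h * f * h⁻¹) = h * (f * f) * h⁻¹ := by group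
        _ = 1 := by rw [hf2]; group
    · show h * f * h⁻¹ ≠ 1
      intro e
      exact hf3 (conj_eq_one_iff.1 e)
    · show h * f * h⁻¹ ≠ z
      intro e
      apply hf4
      calc f = h⁻¹ * (h * f * h⁻¹) * h := by group
        _ = h⁻¹ * (z * h) := by rw [e]; group
        _ = h⁻¹ * (h * z) := by rw [hz]
        _ = z := by group
  let ρ : centralizer ({z} : Set G) →* Equiv.Perm Δ :=
    { toFun := fun h =>
        { toFun := fun f => ⟨(h : G) * f * (h : G)⁻¹, hact h f⟩
          invFun := fun f => ⟨((h⁻¹ : centralizer ({z} : Set G)) : G) * f * ((h⁻¹ : centralizer ({z} : Set G)) : G)⁻¹,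
            hact h⁻¹ f⟩
          left_inv := fun f => Subtype.ext (by
            show (h : G)⁻¹ * ((h : G) * f * (h : G)⁻¹) * (h : G)⁻¹⁻¹ = f
            group)
          right_inv := fun f => Subtype.ext (by
            show (h : G) * ((h : G)⁻¹ * f * (h : G)⁻¹⁻¹) * (h : G)⁻¹ = f
            group) }
      map_one' := Equiv.ext fun f => Subtype.ext (by
        show (1 : G) * f * (1 : G)⁻¹ = f
        group)
      map_mul' := fun a b => Equiv.ext fun f => Subtype.ext (by
        show ((a : G) * b) * f * ((a : G) * b)⁻¹ = (a : G) * ((b : G) * f * (b : G)⁻¹) * (a : G)⁻¹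
        group) }
  refine ⟨Equiv.Perm.sign.comp ρ, fun hx => ?_⟩
  have hcx : c * x ∈ F := F.mul_mem d.cF d.xF
  have hcxz : c * x * z ∈ F := F.mul_mem hcx d.zF
  have hcxc : c * x * z = z * (c * x) := d.Fz _ hcx
  set p : Δ := ⟨c * x, hcx, d.cxcx, d.cx_ne_one, d.cx_ne_z⟩ with hp
  have h2 : c * x * z * (c * x * z) = 1 := by
    calc c * x * z * (c * x * z) = c * x * (z * (c * x)) * z := by group
      _ = c * x * (c * x * z) * z := by rw [← hcxc]
      _ = (c * x * (c * x)) * (z * z) := by group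
      _ = 1 := by rw [d.cxcx, d.zz, one_mul]
  set q : Δ := ⟨c * x * z, hcxz, h2, (fun e => d.cx_ne_z (by
      have : c * x = z⁻¹ := mul_eq_one_iff_eq_inv.1 e
      rw [this, d.zinv])), (fun e => d.cx_ne_one (mul_eq_right.1 e))⟩ with hq
  have hpq : p ≠ q := by
    intro e
    have h3 : c * x = c * x * z := congrArg Subtype.val e
    exact d.z1 (mul_eq_left.1 h3.symm)
  show Equiv.Perm.sign (ρ ⟨x, hx⟩) = -1
  have hxi : x⁻¹ = x := inv_eq_of_mul_eq_one_right d.xx
  have e1 : ρ ⟨x, hx⟩ = Equiv.swap p q := by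
    apply Equiv.ext
    rintro ⟨f, hf1, hf2, hf3, hf4⟩
    apply Subtype.ext
    show x * f * x⁻¹ = _
    rw [hxi]
    rcases d.inv_cases hf1 hf2 hf3 hf4 with h | h | h | h
    · subst h
      rw [Equiv.swap_apply_of_ne_of_ne]
      · show f * f * f = f
        rw [d.xx, one_mul]
      · intro e
        have h3 : f = c * f := congrArg Subtype.val e
        have h4 : c = 1 := mul_eq_right.1 h3.symm
        have h5 := d.cc
        rw [h4, one_mul] at h5
        exact d.z1 h5.symm
      · intro e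
        have h3 : f = c * f * z := congrArg Subtype.val e
        have h4 : c * z = 1 := by
          rw [mul_assoc, d.xzc, ← mul_assoc] at h3
          exact mul_eq_right.1 h3.symm
        have h5 : c = z := by
          have h6 : c = z⁻¹ := mul_eq_one_iff_eq_inv.1 h4
          rw [h6, d.zinv]
        have h7 := d.cc
        rw [h5, d.zz] at h7
        exact d.z1 h7.symm
    · rw [Equiv.swap_apply_of_ne_of_ne]
      · show x * f * x = f
        rw [h]
        calc x * (x * z) * x = (x * x) * (z * x) := by group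
          _ = x * z := by rw [d.xx, one_mul, d.xzc]
      · intro e
        have h3 : f = c * x := congrArg Subtype.val e
        rw [h, d.xzc] at h3
        have h4 : z = c := mul_right_cancel h3
        have h7 := d.cc
        rw [← h4, d.zz] at h7
        exact d.z1 h7.symm
      · intro e
        have h3 : f = c * x * z := congrArg Subtype.val e
        rw [h] at h3
        have h4 : x = c * x := mul_right_cancel h3
        have h5 : c = 1 := mul_eq_right.1 h4.symm
        have h7 := d.cc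
        rw [h5, one_mul] at h7
        exact d.z1 h7.symm
    · have e2 : (⟨f, hf1, hf2, hf3, hf4⟩ : Δ) = p := Subtype.ext h
      rw [e2, Equiv.swap_apply_left]
      show x * f * x = c * x * z
      rw [h]
      calc x * (c * x) * x = (x * c * x) * x := by group
        _ = c * z * x := by rw [d.xcx]
        _ = c * x * z := by rw [mul_assoc, ← d.xzc, ← mul_assoc]
    · have e2 : (⟨f, hf1, hf2, hf3, hf4⟩ : Δ) = q := Subtype.ext h
      rw [e2, Equiv.swap_apply_right]
      show x * f * x = c * x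
      rw [h]
      calc x * (c * x * z) * x = (x * c * x) * (z * x) := by group
        _ = c * z * (z * x) := by rw [d.xcx]
        _ = c * (z * z) * x := by group
        _ = c * x := by rw [d.zz, mul_one]
  rw [e1, Equiv.Perm.sign_swap hpq]

/-- `Z(S₁)` for `S₁ ∋ m`, `R ≤ S₁`, given the elements which centralise `c`, `x`, `m`, `R` -/
theorem central (d : Di z c x F) {m y : G} {R : Subgroup G}
    (hB : ∀ y : G, y * z = z * y → y * x = x * y → y * c = c * y → y * m = m * y → (∀ r ∈ R, y * r = r * y) →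
      y = 1 ∨ y = z ∨ y = m ∨ y = m * z)
    (hyz : y * z = z * y) (hyx : y * x = x * y) (hym : y * m = m * y) (hyR : ∀ r ∈ R, y * r = r * y)
    (hxm : x * m = m * x) (hxR : ∀ r ∈ R, x * r = r * x) (hmm : m * m = z) (hyy : y * y = 1) :
    y = 1 ∨ y = z ∨ y = x ∨ y = x * z := by
  have hcy : y * c * y⁻¹ ∈ F := d.nor y hyz c d.cF
  have hsq : (y * c * y⁻¹) * (y * c * y⁻¹) = z := by
    calc (y * c * y⁻¹) * (y * c * y⁻¹) = y * (c * c) * y⁻¹ := by group
      _ = z := by rw [d.cc, hyz, mul_inv_cancel_right]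
  have hzz1 : ∀ u : G, u * u = 1 → u * u = z → False := fun u h1 h2 => d.z1 (by rw [← h2, h1])
  -- `y` maps `c` to `c` or `cz`
  have hc : y * c * y⁻¹ = c ∨ y * c * y⁻¹ = c * z := by
    by_cases h1 : y * c * y⁻¹ = 1
    · exfalso; apply hzz1 _ _ hsq; rw [h1, one_mul]
    by_cases h2 : y * c * y⁻¹ = z
    · exfalso; apply hzz1 _ _ hsq; rw [h2, d.zz]
    rcases d.el _ hcy with h | h | h | h | h | h | h | h
    · exact (h1 h).elim
    · exact (h2 h).elim
    · exact Or.inl h
    · exact Or.inr h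
    · exfalso; apply hzz1 _ _ hsq; rw [h, d.xx]
    · exfalso; apply hzz1 _ _ hsq; rw [h]
      calc x * z * (x * z) = x * (z * x) * z := by group
        _ = x * (x * z) * z := by rw [d.xzc]
        _ = (x * x) * (z * z) := by group
        _ = 1 := by rw [d.xx, d.zz, one_mul]
    · exfalso; apply hzz1 _ _ hsq; rw [h, d.cxcx]
    · exfalso; apply hzz1 _ _ hsq; rw [h]
      have hcxc : c * x * z = z * (c * x) := d.Fz _ (F.mul_mem d.cF d.xF)
      calc c * x * z * (c * x * z) = c * x * (z * (c * x)) * z := by group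
        _ = c * x * (c * x * z) * z := by rw [← hcxc]
        _ = (c * x * (c * x)) * (z * z) := by group
        _ = 1 := by rw [d.cxcx, d.zz, one_mul]
  have hmz : m * z = z * m := by rw [← hmm]; group
  have hfin : ∀ w : G, w * w = 1 → (w = 1 ∨ w = z ∨ w = m ∨ w = m * z) → w = 1 ∨ w = z := by
    intro w hww hw
    rcases hw with h | h | h | h
    · exact Or.inl h
    · exact Or.inr h
    · exfalso; apply hzz1 w hww; rw [h, hmm]
    · exfalso; apply hzz1 w hww; rw [h]
      calc m * z * (m * z) = m * (z * m) * z := by group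
        _ = m * (m * z) * z := by rw [hmz]
        _ = (m * m) * (z * z) := by group
        _ = z := by rw [hmm, d.zz, mul_one]
  rcases hc with hc | hc
  · have h1 : y * c = c * y := by rwa [mul_inv_eq_iff_eq_mul] at hc
    rcases hfin y hyy (hB y hyz hyx h1 hym hyR) with h | h
    · exact Or.inl h
    · exact Or.inr (Or.inl h)
  · -- `y x` commutes with `c`
    have h0 : y * c = c * z * y := by rwa [mul_inv_eq_iff_eq_mul] at hc
    have hxc : x * c = c * z * x := by
      calc x * c = x * c * (x * x) := by rw [d.xx, mul_one]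
        _ = (x * c * x) * x := by group
        _ = c * z * x := by rw [d.xcx]
    have h1 : y * x * c = c * (y * x) := by
      calc y * x * c = y * (x * c) := by group
        _ = y * (c * z * x) := by rw [hxc]
        _ = (y * c) * z * x := by group
        _ = c * z * y * z * x := by rw [h0]
        _ = c * z * (y * z) * x := by group
        _ = c * z * (z * y) * x := by rw [hyz]
        _ = c * (z * z) * (y * x) := by group
        _ = c * (y * x) := by rw [d.zz, mul_one]
    have h2 : y * x * (y * x) = 1 := by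
      calc y * x * (y * x) = y * (x * y) * x := by group
        _ = y * (y * x) * x := by rw [hyx]
        _ = (y * y) * (x * x) := by group
        _ = 1 := by rw [hyy, d.xx, one_mul]
    have h3 : y * x * z = z * (y * x) := by
      rw [mul_assoc, d.xzc, ← mul_assoc, hyz, mul_assoc]
    have h4 : y * x * x = x * (y * x) := by rw [hyx, mul_assoc, hyx]
    have h5 : y * x * m = m * (y * x) := by
      rw [mul_assoc, hxm, ← mul_assoc, hym, mul_assoc]
    have h6 : ∀ r ∈ R, y * x * r = r * (y * x) := by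
      intro r hr
      rw [mul_assoc, hxR r hr, ← mul_assoc, hyR r hr, mul_assoc]
    have h7 : ∀ w : G, y * x = w → y = w * x := by
      rintro w rfl
      rw [mul_assoc, d.xx, mul_one]
    rcases hfin _ h2 (hB _ h3 h4 h1 h5 h6) with h | h
    · right; right; left
      rw [h7 _ h, one_mul]
    · right; right; right
      rw [h7 _ h, d.xzc]

/-! ### The end of the case -/

/-- `S₁` a maximal 2-subgroup of `C(x) ∩ C(z)` containing `F'`-commuting `R`, `m` -/
theorem false [Finite G] (hG : ∀ H : Subgroup G, H.index ≠ 2) (d : Di z c x F) {m : G} {R : Subgroup G}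
    (hB : ∀ y : G, y * z = z * y → y * x = x * y → y * c = c * y → y * m = m * y → (∀ r ∈ R, y * r = r * y) →
      y = 1 ∨ y = z ∨ y = m ∨ y = m * z)
    (hmz : m * z = z * m) (hxm : x * m = m * x) (hmm : m * m = z) (hR : IsPGroup 2 R)
    (hxR : ∀ r ∈ R, x * r = r * x) (hzR : ∀ r ∈ R, z * r = r * z) (hmR : ∀ r ∈ R, m * r = r * m)
    (hF : IsPGroup 2 F)
    (hu : ∀ g : G, g * x = x * g → g * z * g⁻¹ ≠ z * x) : False := by
  classical
  have : Fact (Nat.Prime 2) := ⟨Nat.prime_two⟩
  set N : Subgroup G := centralizer ({x} : Set G) ⊓ centralizer ({z} : Set G) with hN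
  have hNm : ∀ y, y ∈ N ↔ y * x = x * y ∧ y * z = z * y := by
    intro y
    rw [hN, mem_inf, mem_centralizer_singleton_iff, mem_centralizer_singleton_iff]
  -- `S₁`
  set P0 : Subgroup G := R ⊔ zpowers m with hP0
  have hmp : IsPGroup 2 (zpowers m) := by
    apply IsPGroup.of_card (n := 2)
    rw [Nat.card_zpowers]
    have h2 : m ^ 4 = 1 := by
      rw [show (4 : ℕ) = 2 * 2 from rfl, pow_mul, pow_two m, hmm, pow_two, d.zz]
    have h3 : orderOf m ∣ 2 ^ 2 := orderOf_dvd_of_pow_eq_one h2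
    have h4 : ¬ orderOf m ∣ 2 := by
      intro h
      have h5 := orderOf_dvd_iff_pow_eq_one.1 h
      rw [pow_two, hmm] at h5
      exact d.z1 h5
    have h5 : orderOf m ≤ 4 := Nat.le_of_dvd (by norm_num) h3
    have h6 : orderOf m ≠ 0 := (orderOf_pos m).ne'
    interval_cases h : orderOf m <;> first | rfl | omega
  have hmN : zpowers m ≤ normalizer (R : Set G) := by
    rw [zpowers_le, mem_normalizer_iff]
    intro r
    have hc : ∀ u ∈ R, m * u * m⁻¹ = u := fun u hu' => by rw [hmR u hu', mul_inv_cancel_right]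
    refine ⟨fun h => by rw [hc r h]; exact h, fun h => ?_⟩
    have h1 : m⁻¹ * (m * r * m⁻¹) * m = m * r * m⁻¹ := by
      have h2 := hmR _ h
      calc m⁻¹ * (m * r * m⁻¹) * m = m⁻¹ * ((m * r * m⁻¹) * m) := by group
        _ = m⁻¹ * (m * (m * r * m⁻¹)) := by rw [h2]
        _ = m * r * m⁻¹ := by group
    have h2 : r = m * r * m⁻¹ := by
      rw [← h1]; group
    rw [h2]; exact h
  have hP0p : IsPGroup 2 P0 := IsPGroup.to_sup_of_normal_left' hR hmp hmN
  have hP0N : P0 ≤ N := by
    rw [hP0, sup_le_iff, zpowers_le]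
    refine ⟨fun r hr => (hNm r).2 ⟨(hxR r hr).symm, (hzR r hr).symm⟩, (hNm m).2 ⟨hxm.symm, hmz⟩⟩
  obtain ⟨S, hS⟩ := (hP0p.comap_subtype : IsPGroup 2 (P0.subgroupOf N)).exists_le_sylow
  set S1 : Subgroup G := (S : Subgroup N).map N.subtype with hS1
  have hS1N : S1 ≤ N := map_subtype_le _
  have hS1p : IsPGroup 2 S1 := S.isPGroup'.map _
  have hP0S : P0 ≤ S1 := by
    intro y hy
    exact ⟨⟨y, hP0N hy⟩, hS (mem_subgroupOf.2 hy), rfl⟩
  have hmS : m ∈ S1 := hP0S ((le_sup_right : zpowers m ≤ P0) (mem_zpowers m))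
  have hRS : ∀ r ∈ R, r ∈ S1 := fun r hr => hP0S ((le_sup_left : R ≤ P0) hr)
  have hzS : z ∈ S1 := by rw [← hmm]; exact S1.mul_mem hmS hmS
  have hmax : ∀ P : Subgroup G, IsPGroup 2 P → P ≤ N → S1 ≤ P → P ≤ S1 := by
    intro P hP hPN hSP y hy
    have h1 : (S : Subgroup N) ≤ P.subgroupOf N := by
      intro w hw
      exact mem_subgroupOf.2 (hSP ⟨w, hw, rfl⟩)
    have h2 := S.is_maximal' (Q := P.subgroupOf N) (hP.comap_subtype) h1
    exact ⟨⟨y, hPN hy⟩, by rw [← h2]; exact mem_subgroupOf.2 hy, rfl⟩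
  -- central involutions
  have hcen : ∀ w : G, w * w = 1 → w * x = x * w → (∀ d ∈ S1, w * d = d * w) →
      w = 1 ∨ w = z ∨ w = x ∨ w = x * z := by
    intro w hww hwx hwS
    exact d.central hB (hwS z hzS) hwx (hwS m hmS) (fun r hr => hwS r (hRS r hr)) hxm hxR hmm hww
  have hsupp : ∀ (P : Subgroup G) (w : G), IsPGroup 2 P → w * w = 1 → (∀ y ∈ P, w * y = y * w) →
      IsPGroup 2 (P ⊔ zpowers w : Subgroup G) := by
    intro P w hP hww hwP
    have hwp : IsPGroup 2 (zpowers w) := by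
      rintro ⟨y, hy⟩
      obtain ⟨k, rfl⟩ := mem_zpowers_iff.1 hy
      refine ⟨1, Subtype.ext ?_⟩
      show (w ^ k) ^ 2 ^ 1 = 1
      rw [pow_one, pow_two, ← zpow_add, ← two_mul, zpow_mul, zpow_ofNat, pow_two, hww, one_zpow]
    refine IsPGroup.to_sup_of_normal_left' hP hwp ?_
    rw [zpowers_le, mem_normalizer_iff]
    intro y
    constructor
    · intro hy
      rw [hwP y hy, mul_inv_cancel_right]; exact hy
    · intro hy
      have h1 := hwP _ hy
      have h2 : y = w * y * w⁻¹ := by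
        calc y = w⁻¹ * (w * y * w⁻¹ * w) := by group
          _ = w⁻¹ * (w * (w * y * w⁻¹)) := by rw [h1]
          _ = w * y * w⁻¹ := by group
      rw [h2]; exact hy
  -- `S₁` is a maximal 2-subgroup of `C(x)`
  have hmax2 : ∀ P : Subgroup G, IsPGroup 2 P → P ≤ centralizer ({x} : Set G) → S1 ≤ P → P ≤ S1 := by
    intro P hP hPx hSP
    by_contra hcon
    have hlt : S1 < P := lt_of_le_not_ge hSP hcon
    have : Group.IsNilpotent P := hP.isNilpotent
    obtain ⟨g, hgP, hgS, hgN⟩ := Cfsg.Agent.Transfer.FrobeniusFusion.exists_mem_normalizer_notMem hlt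
    have hgx : g * x = x * g := mem_centralizer_singleton_iff.1 (hPx hgP)
    have h1 : g * z * g⁻¹ = 1 ∨ g * z * g⁻¹ = z ∨ g * z * g⁻¹ = x ∨ g * z * g⁻¹ = x * z := by
      have hgz : g * z * g⁻¹ ∈ S1 := (mem_normalizer_iff.1 hgN z).1 hzS
      refine hcen _ ?_ ((hNm _).1 (hS1N hgz)).1 ?_
      · calc g * z * g⁻¹ * (g * z * g⁻¹) = g * (z * z) * g⁻¹ := by group
          _ = 1 := by rw [d.zz]; group
      · intro y hy
        have h2 : g⁻¹ * y * g ∈ S1 := by
          rw [mem_normalizer_iff] at hgN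
          rw [hgN]
          have e : g * (g⁻¹ * y * g) * g⁻¹ = y := by group
          rw [e]; exact hy
        have h3 := ((hNm _).1 (hS1N h2)).2
        calc g * z * g⁻¹ * y = g * (z * (g⁻¹ * y * g)) * g⁻¹ := by group
          _ = g * (g⁻¹ * y * g * z) * g⁻¹ := by rw [h3]
          _ = y * (g * z * g⁻¹) := by group
    rcases h1 with h1 | h1 | h1 | h1
    · exact d.z1 (conj_eq_one_iff.1 h1)
    · -- `g ∈ N`
      have hgz : g * z = z * g := by rwa [mul_inv_eq_iff_eq_mul] at h1
      apply hgS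
      have hle : P ⊓ N ≤ S1 := hmax (P ⊓ N) (hP.to_le inf_le_left) inf_le_right (le_inf hSP hS1N)
      exact hle ⟨hgP, (hNm g).2 ⟨hgx, hgz⟩⟩
    · apply d.xz
      have h2 : g * z = x * g := by rwa [mul_inv_eq_iff_eq_mul] at h1
      rw [← hgx] at h2
      exact (mul_left_cancel h2).symm
    · exact hu g hgx (by rw [h1, d.xzc])
  -- `S₁` is a Sylow 2-subgroup of `C(x)`
  have hcardle : ∀ P : Subgroup G, IsPGroup 2 P → P ≤ centralizer ({x} : Set G) → Nat.card P ≤ Nat.card S1 := by
    intro P hP hPx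
    obtain ⟨T, hT⟩ := (hS1p.comap_subtype : IsPGroup 2 (S1.subgroupOf (centralizer ({x} : Set G)))).exists_le_sylow
    obtain ⟨T', hT'⟩ := (hP.comap_subtype : IsPGroup 2 (P.subgroupOf (centralizer ({x} : Set G)))).exists_le_sylow
    have hS1x : S1 ≤ centralizer ({x} : Set G) := hS1N.trans inf_le_left
    have h1 : (T : Subgroup (centralizer ({x} : Set G))).map (centralizer ({x} : Set G)).subtype ≤ S1 := by
      apply hmax2 _ (T.isPGroup'.map _) (map_subtype_le _)
      intro y hy
      exact ⟨⟨y, hS1x hy⟩, hT (mem_subgroupOf.2 hy), rfl⟩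
    have h2 : Nat.card T' = Nat.card T := by
      rw [T.card_eq_multiplicity, T'.card_eq_multiplicity]
    calc Nat.card P = Nat.card (P.subgroupOf (centralizer ({x} : Set G))) :=
          (Nat.card_congr (subgroupOfEquivOfLe hPx).toEquiv).symm
      _ ≤ Nat.card T' := Subgroup.card_le_of_le hT'
      _ = Nat.card T := h2
      _ = Nat.card ((T : Subgroup (centralizer ({x} : Set G))).map (centralizer ({x} : Set G)).subtype) :=
          (Nat.card_congr ((T : Subgroup (centralizer ({x} : Set G))).equivMapOfInjective _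
            (subtype_injective _)).toEquiv)
      _ ≤ Nat.card S1 := Subgroup.card_le_of_le h1
  -- `x` is not conjugate to `z`
  have hnc : ∀ k : G, k * z * k⁻¹ ≠ x := by
    intro k hk
    set P : Subgroup G := S1 ⊔ F with hP
    have hSF : S1 ≤ normalizer (F : Set G) := by
      intro y hy
      have hyz := ((hNm y).1 (hS1N hy)).2
      rw [mem_normalizer_iff]
      intro f
      refine ⟨fun hf => d.nor y hyz f hf, fun hf => ?_⟩
      have h1 := d.nor y⁻¹ (show Commute y z from hyz).inv_left _ hf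
      have e : y⁻¹ * (y * f * y⁻¹) * y⁻¹⁻¹ = f := by group
      rwa [e] at h1
    have hPp : IsPGroup 2 P := IsPGroup.to_sup_of_normal_right' hS1p hF hSF
    have hPz : ∀ y ∈ P, y * z = z * y := by
      have h1 : P ≤ centralizer ({z} : Set G) := by
        rw [hP, sup_le_iff]
        exact ⟨hS1N.trans inf_le_right, fun f hf => mem_centralizer_singleton_iff.2 (d.Fz f hf)⟩
      exact fun y hy => mem_centralizer_singleton_iff.1 (h1 hy)
    have h1 := hcardle (P.map (MulAut.conj k).toMonoidHom) (hPp.map _) (by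
      rintro _ ⟨y, hy, rfl⟩
      rw [mem_centralizer_singleton_iff]
      show k * y * k⁻¹ * x = x * (k * y * k⁻¹)
      rw [← hk]
      calc k * y * k⁻¹ * (k * z * k⁻¹) = k * (y * z) * k⁻¹ := by group
        _ = k * (z * y) * k⁻¹ := by rw [hPz y hy]
        _ = k * z * k⁻¹ * (k * y * k⁻¹) := by group)
    have h2 : Nat.card (P.map (MulAut.conj k).toMonoidHom) = Nat.card P :=
      (Nat.card_congr (P.equivMapOfInjective _ (MulAut.conj k).injective).toEquiv).symm
    rw [h2] at h1
    have h3 : S1 = P := Subgroup.eq_of_le_of_card_ge le_sup_left h1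
    have h4 : c ∈ S1 := by rw [h3]; exact (le_sup_right : F ≤ S1 ⊔ F) d.cF
    have h5 := ((hNm c).1 (hS1N h4)).1
    have h6 := d.cx
    rw [h5, mul_inv_cancel_right] at h6
    exact d.z1 (mul_eq_left.1 h6.symm)
  -- the sign
  obtain ⟨φ, hφ⟩ := d.exists_sign
  have hxH : x ∈ centralizer ({z} : Set G) := mem_centralizer_singleton_iff.2 d.xzc
  refine false_of_fixed hG d.xx _ (fun y => mem_centralizer_singleton_iff) φ hxH (hφ hxH) S1 hS1p (fun y hy => ((hNm y).1 (hS1N hy)).1)
    (fun y hy => ((hNm y).1 (hS1N hy)).2) ?_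
  intro g hg1 hg2
  set w : G := g * z * g⁻¹ with hw
  have hww : w * w = 1 := by
    calc w * w = g * (z * z) * g⁻¹ := by rw [hw]; group
      _ = 1 := by rw [d.zz]; group
  rcases hcen w hww hg2.symm (fun y hy => (hg1 y hy).symm) with h | h | h | h
  · exact (d.z1 (conj_eq_one_iff.1 h)).elim
  · exact h
  · exact (hnc g h).elim
  · exfalso
    apply hnc (c⁻¹ * g)
    have h1 : c⁻¹ * (x * z) * c = x := by
      rw [← d.cx]; group
    calc c⁻¹ * g * z * (c⁻¹ * g)⁻¹ = c⁻¹ * w * c := by rw [hw]; group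
      _ = x := by rw [h, h1]

end Di

end Cfsg.Agent.OddHalf.D6.QThree.NIB.DEight

end

-- merged: Cfsg.Agent.OddHalf.D6.QThree.NIB.DirG
section

/-!
# ODD half, D6, `q = 3`, NI with `B`: the case `R ≤ M`, in `G` (text of helper801, bb #14694, (5.1), (5.2), (5.3))

`X = C_G(z)`. `grow` (L-balance): a component of `X` centralised by `Q₁`, `Q₂` is smaller than some component of `X`, if
an involution `q₁ q₂` of `R` is conjugate to `z`. `no_DE`: the case `C(M) = D₈` does not occur.
-/

set_option autoImplicit false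

namespace Cfsg.Agent.OddHalf.D6.QThree.NIB.DirG

open Subgroup Cfsg
open Cfsg.Agent.OddHalf
open Cfsg.Agent.SignalizersComponents.Components
open Cfsg.Agent.OddHalf.D6.QThree.NISide
open Cfsg.Agent.OddHalf.D6.QThree.NIB.Dir

section X

theorem pow4 {X : Type*} [Group X] (f : X) : f ^ 4 = (f * f) * (f * f) := by
  rw [← pow_two, ← pow_two, ← pow_mul]

variable {X : Type*} [Group X] {z t a₁ a₂ : X} {Q₁ Q₂ : Subgroup X}

/-- the two factors meet in `⟨z⟩` -/
theorem prod_ne (h : HypB z t a₁ a₂ Q₁ Q₂) {x y : X} (hx : x ∈ Q₁) (hy : y ∈ Q₂) (hxx : x * x = z)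
    (e : x * y = 1 ∨ x * y = z) : False := by
  have hx2 : x ∈ Q₂ := by
    rcases e with e | e
    · rw [eq_inv_of_mul_eq_one_left e]; exact Q₂.inv_mem hy
    · have : x = z * y⁻¹ := by rw [← e, mul_inv_cancel_right]
      rw [this]; exact Q₂.mul_mem h.s₂.zQ (Q₂.inv_mem hy)
  have hx1 : x ≠ 1 := by
    rintro rfl
    rw [one_mul] at hxx; exact h.z1 hxx.symm
  have hxz : x ≠ z := by
    rintro rfl
    rw [h.zz] at hxx; exact h.z1 hxx.symm
  exact h.s₁.act x hx hx1 hxz (h.comm _ (h.s₁.aQ x hx) x hx2).symm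

/-- the elements of `B` which centralise `D₈` -/
theorem hB_of (h : HypB z t a₁ a₂ Q₁ Q₂) {M : Subgroup X} {m c x y : X} (d : DE z t Q₁ Q₂ M m c x)
    (hyx : y * x = x * y) (hyc : y * c = c * y) (hym : y * m = m * y) (hy₁ : ∀ q ∈ Q₁, y * q = q * y)
    (hy₂ : ∀ q ∈ Q₂, y * q = q * y) : y = 1 ∨ y = z ∨ y = m ∨ y = m * z := by
  have cyx : Commute y x := hyx
  have cyc : Commute y c := hyc
  have cym : Commute y m := hym
  have cmx : Commute m x := (d.xM m d.mM).symm
  have hyt : y * t = t * y := by rw [d.tmc]; exact (cym.mul_right cyc).eq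
  have htx : ¬ t * x = x * t := by
    intro e
    have h1 : t * x * t⁻¹ = x := by rw [e, mul_inv_cancel_right]
    have h2 : t * x * t⁻¹ = x * z := by
      rw [d.tmc]
      calc m * c * x * (m * c)⁻¹ = m * (c * x * c⁻¹) * m⁻¹ := by group
        _ = m * x * z * m⁻¹ := by rw [d.cx]; group
        _ = x * m * z * m⁻¹ := by rw [cmx.eq]
        _ = x * (z * m) * m⁻¹ := by rw [← h.zc m]; group
        _ = x * z := by group
    rw [h1] at h2
    exact h.z1 (mul_eq_left.1 h2.symm)
  have hBy : Bt t Q₁ Q₂ y := ⟨hyt, hy₁, hy₂⟩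
  -- elements of `⟨t, z⟩` commuting with `x`
  have key : ∀ w : X, T4 z t w → w * x = x * w → w = 1 ∨ w = z := by
    intro w hw hwx
    rcases hw with e | e | e | e
    · exact Or.inl e
    · exact Or.inr e
    · exfalso; apply htx; rw [← e]; exact hwx
    · exfalso; apply htx
      have e1 : t = w * z := by rw [e, mul_assoc, h.zz, mul_one]
      have c1 : Commute w x := hwx
      have c2 : Commute z x := (h.zc x).symm
      rw [e1]; exact (c1.mul_left c2).eq
  have hmy : ∀ w, m⁻¹ * y = w → y = m * w := fun w e => by rw [← e, mul_inv_cancel_left]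
  by_cases hF : T4 z t y
  · rcases key y hF hyx with e | e
    · exact Or.inl e
    · exact Or.inr (Or.inl e)
  rcases key _ (h.Bsq y hBy) (cyx.mul_left cyx).eq with e | e
  · exfalso
    apply hF
    have hBw : Bt t Q₁ Q₂ (m * y) := by
      refine ⟨?_, fun q hq => ?_, fun q hq => ?_⟩
      · exact ((show Commute m t from d.Bm.1).mul_left (show Commute y t from hyt)).eq
      · exact ((show Commute m q from d.Bm.2.1 q hq).mul_left (show Commute y q from hy₁ q hq)).eq
      · exact ((show Commute m q from d.Bm.2.2 q hq).mul_left (show Commute y q from hy₂ q hq)).eq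
    have hww : m * y * (m * y) = z := by
      calc m * y * (m * y) = m * (y * m) * y := by group
        _ = m * (m * y) * y := by rw [hym]
        _ = (m * m) * (y * y) := by group
        _ = z := by rw [e, d.mm, mul_one]
    have := h.Bu m (m * y) d.Bm hBw d.mm hww
    rwa [inv_mul_cancel_left] at this
  · have h1 := h.Bu m y d.Bm hBy d.mm e
    rcases key _ h1 (cmx.inv_left.mul_left cyx).eq with e' | e'
    · right; right; left; rw [hmy _ e', mul_one]
    · right; right; right; exact hmy _ e'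

/-- `C(M)` is a 2-group -/
theorem sq_of (h : HypB z t a₁ a₂ Q₁ Q₂) {M : Subgroup X} {m c x : X} (d : DE z t Q₁ Q₂ M m c x) {f : X}
    (hf : ∀ y ∈ M, f * y = y * f) : f ^ 4 = 1 := by
  have key : f * f = 1 ∨ f * f = z := by
    have hz : ∀ a : X, a * z * (a * z) = a * a := by
      intro a
      calc a * z * (a * z) = a * (z * a) * z := by group
        _ = a * (a * z) * z := by rw [h.zc a]
        _ = a * a * (z * z) := by group
        _ = a * a := by rw [h.zz, mul_one]
    have hcx : c * x * (c * x) = 1 := by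
      calc c * x * (c * x) = (c * x * c⁻¹) * (c * c) * x := by group
        _ = x * z * z * x := by rw [d.cx, d.cc]
        _ = x * (z * z) * x := by group
        _ = 1 := by rw [h.zz, mul_one, d.xx]
    rcases d.el f hf with e | e | e | e | e | e | e | e <;> rw [e]
    · left; rw [one_mul]
    · left; exact h.zz
    · right; exact d.cc
    · right; rw [hz]; exact d.cc
    · left; exact d.xx
    · left; rw [hz]; exact d.xx
    · left; exact hcx
    · left; rw [hz]; exact hcx
  rw [pow4]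
  rcases key with e | e <;> rw [e]
  · rw [one_mul]
  · exact h.zz

end X

universe u

variable {G : Type u} [Group G]

/-- a component of `X` which centralises `Q₁ Q₂` is smaller than some other component -/
theorem grow [Finite G] (hb : D3.Plug.Bal G) {z : G} (hz : orderOf z = 2)
    {z' t' a₁ a₂ : ↥(centralizer ({z} : Set G))} (hz' : (z' : G) = z)
    {Q₁ Q₂ : Subgroup ↥(centralizer ({z} : Set G))} (h : HypB z' t' a₁ a₂ Q₁ Q₂)
    {q₁ q₂ : ↥(centralizer ({z} : Set G))} (hq₁ : q₁ ∈ Q₁) (hq₂ : q₂ ∈ Q₂) (hqq₁ : q₁ * q₁ = z')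
    (hqq₂ : q₂ * q₂ = z') {g : G} (hg : g * z * g⁻¹ = (q₁ : G) * q₂)
    (L : Subgroup ↥(centralizer ({z} : Set G))) (hL : IsComponent L)
    (hL₁ : ∀ m ∈ L, ∀ x ∈ Q₁, m * x = x * m) (hL₂ : ∀ m ∈ L, ∀ x ∈ Q₂, m * x = x * m) :
    ∃ L' : Subgroup ↥(centralizer ({z} : Set G)), IsComponent L' ∧ Nat.card L < Nat.card L' := by
  set y : (centralizer ({z} : Set G)) := q₁ * q₂ with hy
  have hyy : y * y = 1 := by
    calc y * y = q₁ * (q₂ * q₁) * q₂ := by rw [hy]; group
      _ = q₁ * (q₁ * q₂) * q₂ := by rw [← h.comm q₁ hq₁ q₂ hq₂]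
      _ = (q₁ * q₁) * (q₂ * q₂) := by group
      _ = 1 := by rw [hqq₁, hqq₂, h.zz]
  have hy1 : y ≠ 1 := fun e => prod_ne h hq₁ hq₂ hqq₁ (Or.inl e)
  have hyz : y ≠ z' := fun e => prod_ne h hq₁ hq₂ hqq₁ (Or.inr e)
  have hyo : orderOf (y : G) = 2 := by
    rw [Subgroup.orderOf_coe]
    exact orderOf_eq_prime (by rw [pow_two, hyy]) hy1
  have hyL : ∀ m ∈ L, m * y = y * m := by
    intro m hm
    have c1 : Commute m q₁ := hL₁ m hm q₁ hq₁
    have c2 : Commute m q₂ := hL₂ m hm q₂ hq₂
    exact (c1.mul_right c2).eq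
  have hyL' : (y : G) ∈ centralizer ((L.map (centralizer ({z} : Set G)).subtype : Subgroup G) : Set G) := by
    rw [mem_centralizer_iff]
    rintro _ ⟨m, hm, rfl⟩
    exact congrArg Subtype.val (hyL m hm)
  have hzy : z * (y : G) = y * z := (mem_centralizer_singleton_iff.1 y.2).symm
  obtain ⟨D, hD, hcase⟩ := D3.Plug.exists_pump hb hz (D3.comp_map hL) hyo hzy hyL'
  have hD' := hD.conj g⁻¹
  have e1 : g⁻¹ * (y : G) * g⁻¹⁻¹ = z := by
    have : (y : G) = g * z * g⁻¹ := hg.symm
    rw [this]; group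
  rw [e1] at hD'
  have hyD : (y : G) ∈ D := by
    have h1 : z' ∈ (D3.cj g⁻¹ D).subgroupOf (centralizer ({z} : Set G)) := h.zM _ hD'.comp
    rw [mem_subgroupOf, hz', D3.mem_cj] at h1
    have e2 : g⁻¹⁻¹ * z * g⁻¹ = (y : G) := by rw [inv_inv, hg]; rfl
    rwa [e2] at h1
  refine ⟨(D3.cj g⁻¹ D).subgroupOf (centralizer ({z} : Set G)), hD'.comp, ?_⟩
  have hc1 : Nat.card ↥((D3.cj g⁻¹ D).subgroupOf (centralizer ({z} : Set G))) = Nat.card D := by
    rw [Nat.card_congr (Subgroup.subgroupOfEquivOfLe hD'.le).toEquiv, D3.card_cj]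
  have hc2 : Nat.card ↥(L.map (centralizer ({z} : Set G)).subtype) = Nat.card L :=
    Nat.card_congr (L.equivMapOfInjective _ (centralizer ({z} : Set G)).subtype_injective).toEquiv.symm
  rw [hc1, ← hc2]
  rcases hcase with e | hlt | ⟨h4, -, h6⟩
  · exfalso
    have hyLm : y ∈ L := by
      have h1 : (y : G) ∈ L.map (centralizer ({z} : Set G)).subtype := by rw [e]; exact hyD
      obtain ⟨y0, hy0, e0⟩ := h1
      have : y0 = y := Subtype.ext e0
      rwa [this] at hy0
    have hyl : ∀ x ∈ layer ↥(centralizer ({z} : Set G)), y * x = x * y := by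
      intro x hx
      have h1 : layer ↥(centralizer ({z} : Set G)) ≤ centralizer ({y} : Set ↥(centralizer ({z} : Set G))) := by
        rw [layer_le_iff]
        intro K hK k hk
        rw [mem_centralizer_singleton_iff]
        by_cases e : K = L
        · subst e; exact hyL k hk
        · exact Cfsg.Agent.Cit.Comp.comm_of_ne hK hL e hk hyLm
      exact (mem_centralizer_singleton_iff.1 (h1 hx)).symm
    have hLn : (layer ↥(centralizer ({z} : Set G))).Normal := layer_normal ↥(centralizer ({z} : Set G))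
    let W : Subgroup ↥(centralizer ({z} : Set G)) :=
      { carrier := {w | w ∈ layer ↥(centralizer ({z} : Set G)) ∧ (∀ x ∈ layer ↥(centralizer ({z} : Set G)), w * x = x * w) ∧ w * w = 1}
        one_mem' := ⟨one_mem _, fun x _ => by rw [one_mul, mul_one], one_mul 1⟩
        mul_mem' := by
          rintro a b ⟨ha, ha', haa⟩ ⟨hb, hb', hbb⟩
          refine ⟨mul_mem ha hb, fun x hx => ?_, ?_⟩
          · have c1 : Commute a x := ha' x hx
            have c2 : Commute b x := hb' x hx
            exact (c1.mul_left c2).eq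
          · calc a * b * (a * b) = a * (b * a) * b := by group
              _ = a * (a * b) * b := by rw [ha' b hb]
              _ = (a * a) * (b * b) := by group
              _ = 1 := by rw [haa, hbb, one_mul]
        inv_mem' := by
          rintro a ⟨ha, ha', haa⟩
          have e : a⁻¹ = a := inv_eq_of_mul_eq_one_right haa
          rw [e]
          exact ⟨ha, ha', haa⟩ }
    have hWn : W.Normal := by
      refine ⟨?_⟩
      rintro w ⟨hw, hw', hww⟩ g
      refine ⟨hLn.conj_mem w hw g, fun x hx => ?_, ?_⟩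
      · have h1 : g⁻¹ * x * g ∈ layer ↥(centralizer ({z} : Set G)) := by
          have := hLn.conj_mem x hx g⁻¹
          rwa [inv_inv] at this
        have h2 := hw' _ h1
        calc g * w * g⁻¹ * x = g * (w * (g⁻¹ * x * g)) * g⁻¹ := by group
          _ = g * ((g⁻¹ * x * g) * w) * g⁻¹ := by rw [h2]
          _ = x * (g * w * g⁻¹) := by group
      · calc g * w * g⁻¹ * (g * w * g⁻¹) = g * (w * w) * g⁻¹ := by group
          _ = 1 := by rw [hww]; group
    rcases h.elem W hWn (fun w hw => hw.2.2) y ⟨component_le_layer hL hyLm, hyl, hyy⟩ with e | e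
    · exact hy1 e
    · exact hyz e
  · exact lt_of_le_of_ne (Subgroup.card_le_of_le hlt.le)
      fun e => hlt.ne (Subgroup.eq_of_le_of_card_ge hlt.le e.ge)
  · exfalso
    obtain ⟨d, hd, hzd⟩ := h6 z ⟨z', h.zM L hL, hz'⟩
    apply h4
    have h7 : D3.Comp (y : G) (D3.cj z D) := hD.conj_of_comm hzy
    have h8 : D3.cj z D ≤ centralizer (D : Set G) := h7.comm hD h4
    have h9 : D3.cj (z * d * z⁻¹) D = D := D3.cj_eq_of_mem_centralizer (h8 (D3.conj_mem_cj hd))
    conv_lhs => rw [hzd]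
    rw [← D3.cj_cj, h9]
    exact D3.cj_eq_of_mem hd

/-- **the case `C(M) = D₈`** -/
theorem no_DE [Finite G] (hG : ∀ H : Subgroup G, H.index ≠ 2) {z : G}
    {z' t' a₁ a₂ : ↥(centralizer ({z} : Set G))} (hz' : (z' : G) = z)
    {Q₁ Q₂ : Subgroup ↥(centralizer ({z} : Set G))} (h : HypB z' t' a₁ a₂ Q₁ Q₂)
    {M : Subgroup ↥(centralizer ({z} : Set G))} (hM : IsComponent M) (h1 : Q₁ ≤ M) (h2 : Q₂ ≤ M) (hMn : M.Normal)
    {m c x : ↥(centralizer ({z} : Set G))} (d : DE z' t' Q₁ Q₂ M m c x) : False := by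
  set F' : Subgroup ↥(centralizer ({z} : Set G)) := centralizer (M : Set ↥(centralizer ({z} : Set G))) with hF'
  have hFm : ∀ f, f ∈ F' ↔ ∀ y ∈ M, f * y = y * f := by
    intro f
    rw [hF', mem_centralizer_iff]
    exact ⟨fun h3 y hy => (h3 y hy).symm, fun h3 y hy => (h3 y hy).symm⟩
  have hFn : ∀ g : ↥(centralizer ({z} : Set G)), ∀ f ∈ F', g * f * g⁻¹ ∈ F' := by
    intro g f hf
    rw [hFm] at hf ⊢
    intro y hy
    have h3 : g⁻¹ * y * g ∈ M := by
      have := hMn.conj_mem y hy g⁻¹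
      rwa [inv_inv] at this
    have h4 := hf _ h3
    calc g * f * g⁻¹ * y = g * (f * (g⁻¹ * y * g)) * g⁻¹ := by group
      _ = g * ((g⁻¹ * y * g) * f) * g⁻¹ := by rw [h4]
      _ = y * (g * f * g⁻¹) := by group
  have hFp : ∀ K : Subgroup G, (∀ k ∈ K, ∃ f ∈ F', (f : G) = k) → IsPGroup 2 K := by
    rintro K hK ⟨k, hk⟩
    obtain ⟨f, hf, rfl⟩ := hK k hk
    have h3 : (f : G) ^ 4 = 1 := congrArg Subtype.val (sq_of h d ((hFm f).1 hf))
    refine ⟨2, Subtype.ext ?_⟩
    exact h3
  have hzM : z' ∈ M := h1 h.s₁.zQ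
  have hzc : ∀ a : ↥(centralizer ({z} : Set G)), (a : G) * z = z * a := fun a => mem_centralizer_singleton_iff.1 a.2
  set F : Subgroup G := F'.map (centralizer ({z} : Set G)).subtype with hF
  have hzz : z * z = 1 := by
    have := congrArg Subtype.val h.zz
    rw [← hz']; exact this
  have hz1 : z ≠ 1 := fun e => h.z1 (Subtype.ext (hz'.trans e))
  have hxx : (x : G) * x = 1 := congrArg Subtype.val d.xx
  have hcc : (c : G) * c = z := (congrArg Subtype.val d.cc).trans hz'
  have hcx : (c : G) * x * (c : G)⁻¹ = x * z :=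
    (congrArg Subtype.val d.cx).trans (congrArg (fun w : G => (x : G) * w) hz')
  have hmm : (m : G) * m = z := (congrArg Subtype.val d.mm).trans hz'
  have D : DEight.Di z (c : G) x F :=
    { zz := hzz
      z1 := hz1
      xx := hxx
      x1 := by
        intro e
        rw [e, mul_one, mul_inv_cancel, one_mul] at hcx
        exact hz1 hcx.symm
      xz := by
        intro e
        rw [e, hzz, mul_inv_eq_one] at hcx
        apply hz1
        have : (c : G) * z = c * 1 := by rw [hcx, mul_one]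
        exact mul_left_cancel this
      cc := hcc
      cx := hcx
      xF := ⟨x, (hFm x).2 d.xM, rfl⟩
      cF := ⟨c, (hFm c).2 d.cM, rfl⟩
      el := by
        rintro _ ⟨f, hf, rfl⟩
        have := d.el f ((hFm f).1 hf)
        simp only [Subtype.ext_iff, Subgroup.coe_mul, Subgroup.coe_one, hz'] at this
        exact this
      nor := by
        rintro g hg _ ⟨f, hf, rfl⟩
        exact ⟨⟨g, mem_centralizer_singleton_iff.2 hg⟩ * f * ⟨g, mem_centralizer_singleton_iff.2 hg⟩⁻¹, hFn _ f hf, rfl⟩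
      Fz := by
        rintro _ ⟨f, -, rfl⟩
        exact hzc f }
  set R : Subgroup G := (Q₁ ⊔ Q₂).map (centralizer ({z} : Set G)).subtype with hR
  have hRm : ∀ r ∈ R, ∃ q ∈ Q₁, ∃ q' ∈ Q₂, r = (q : G) * q' := by
    rintro _ ⟨r, hr, rfl⟩
    obtain ⟨a, ha, b, hb, e⟩ := Cfsg.Agent.Cit.Comp.mem_sup_comm h.comm hr
    exact ⟨a, ha, b, hb, by rw [← e]; rfl⟩
  have hQR : ∀ q ∈ Q₁, (q : G) ∈ R := fun q hq => ⟨q, mem_sup_left hq, rfl⟩
  have hQR' : ∀ q ∈ Q₂, (q : G) ∈ R := fun q hq => ⟨q, mem_sup_right hq, rfl⟩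
  have hRc : ∀ y : ↥(centralizer ({z} : Set G)), (∀ q ∈ Q₁, y * q = q * y) → (∀ q ∈ Q₂, y * q = q * y) → ∀ r ∈ R, (y : G) * r = r * y := by
    intro y hy hy' r hr
    obtain ⟨q, hq, q', hq', rfl⟩ := hRm r hr
    have c1 : Commute (y : G) q := congrArg Subtype.val (hy q hq)
    have c2 : Commute (y : G) q' := congrArg Subtype.val (hy' q' hq')
    exact (c1.mul_right c2).eq
  have hRp : IsPGroup 2 R := by
    rintro ⟨r, hr⟩
    obtain ⟨q, hq, q', hq', e⟩ := hRm r hr
    have hq4 : ∀ {a : ↥(centralizer ({z} : Set G))} {Q E : Subgroup ↥(centralizer ({z} : Set G))} {v : ↥(centralizer ({z} : Set G))}, Side z' t' v Q E → a ∈ Q → a ^ 4 = 1 := by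
      intro a Q E v s ha
      rw [pow4]
      by_cases ha1 : a = 1
      · rw [ha1, one_mul, one_mul]
      by_cases haz : a = z'
      · rw [haz, h.zz, one_mul]
      · rw [s.sq a ha ha1 haz, h.zz]
    have c1 : Commute (q : G) q' := congrArg Subtype.val (h.comm q hq q' hq')
    have h3 : (q : G) ^ 4 = 1 := congrArg Subtype.val (hq4 h.s₁ hq)
    have h4 : (q' : G) ^ 4 = 1 := congrArg Subtype.val (hq4 h.s₂ hq')
    refine ⟨2, Subtype.ext ?_⟩
    show r ^ 2 ^ 2 = 1
    rw [e, show (2 : ℕ) ^ 2 = 4 from rfl, c1.mul_pow, h3, h4, one_mul]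
  refine D.false hG (m := (m : G)) (R := R) ?_ (hzc m) (congrArg Subtype.val (d.xM m d.mM)) hmm hRp
    (hRc x (fun q hq => d.xM q (h1 hq)) fun q hq => d.xM q (h2 hq))
    (fun r hr => by
      have := hRc z' (fun q _ => (h.zc q).symm) (fun q _ => (h.zc q).symm) r hr
      rwa [hz'] at this)
    (hRc m d.Bm.2.1 d.Bm.2.2) (hFp F (by
      rintro _ ⟨f, hf, rfl⟩
      exact ⟨f, hf, rfl⟩)) ?_
  · intro y hyz hyx hyc hym hyR
    set y' : ↥(centralizer ({z} : Set G)) := ⟨y, mem_centralizer_singleton_iff.2 hyz⟩ with hy'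
    have := hB_of h d (y := y') (Subtype.ext hyx) (Subtype.ext hyc) (Subtype.ext hym)
      (fun q hq => Subtype.ext (hyR q (hQR q hq))) (fun q hq => Subtype.ext (hyR q (hQR' q hq)))
    simp only [Subtype.ext_iff, Subgroup.coe_mul, Subgroup.coe_one, hz', hy'] at this
    exact this
  · -- `z^g ≠ z x`
    intro g hgx hgz
    set MG : Subgroup G := M.map (centralizer ({z} : Set G)).subtype with hMG
    have hMGle : MG ≤ (centralizer ({z} : Set G)) := map_subtype_le M
    have hMGq : IsQuasisimple MG := isQuasisimple_of_mulEquiv (M.equivMapOfInjective _ (centralizer ({z} : Set G)).subtype_injective) hM.2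
    set U : Subgroup G := centralizer ({(x : G)} : Set G) ⊓ (centralizer ({z} : Set G)) with hU
    have hUm : ∀ u, u ∈ U ↔ u * x = x * u ∧ u * z = z * u := by
      intro u
      rw [hU, mem_inf, mem_centralizer_singleton_iff, mem_centralizer_singleton_iff]
    have hgz' : g⁻¹ * z * g = z * x := by
      have h3 : g * (z * x) * g⁻¹ = z := by
        calc g * (z * x) * g⁻¹ = (g * z * g⁻¹) * (g * x * g⁻¹) := by group
          _ = z * x * x := by rw [hgz, hgx, mul_inv_cancel_right]
          _ = z := by rw [mul_assoc, hxx, mul_one]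
      calc g⁻¹ * z * g = g⁻¹ * (g * (z * x) * g⁻¹) * g := by rw [h3]
        _ = z * x := by group
    have hgx' : g⁻¹ * x * g = x := by
      rw [mul_assoc, ← hgx, inv_mul_cancel_left]
    have hUn : ∀ u ∈ U, g⁻¹ * u * g ∈ U := by
      intro u hu
      rw [hUm] at hu ⊢
      have c1 : Commute u (x : G) := hu.1
      have c2 : Commute u z := hu.2
      refine ⟨?_, ?_⟩
      · calc g⁻¹ * u * g * x = g⁻¹ * u * (g * x) := by group
          _ = g⁻¹ * (u * x) * g := by rw [hgx]; group
          _ = g⁻¹ * (x * u) * g := by rw [c1.eq]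
          _ = (g⁻¹ * x * g) * (g⁻¹ * u * g) := by group
          _ = x * (g⁻¹ * u * g) := by rw [hgx']
      · have h3 : g⁻¹ * (z * x) * g = z := by
          calc g⁻¹ * (z * x) * g = (g⁻¹ * z * g) * (g⁻¹ * x * g) := by group
            _ = z * x * x := by rw [hgz', hgx']
            _ = z := by rw [mul_assoc, hxx, mul_one]
        calc g⁻¹ * u * g * z = g⁻¹ * u * g * (g⁻¹ * (z * x) * g) := by rw [h3]
          _ = g⁻¹ * (u * (z * x)) * g := by group
          _ = g⁻¹ * ((z * x) * u) * g := by rw [(c2.mul_right c1).eq]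
          _ = (g⁻¹ * (z * x) * g) * (g⁻¹ * u * g) := by group
          _ = z * (g⁻¹ * u * g) := by rw [h3]
    have hUn' : ∀ u ∈ U, g * u * g⁻¹ ∈ U := by
      intro u hu
      rw [hUm] at hu ⊢
      have c1 : Commute u (x : G) := hu.1
      have c2 : Commute u z := hu.2
      have h4 : g * x * g⁻¹ = x := by rw [hgx, mul_inv_cancel_right]
      refine ⟨?_, ?_⟩
      · calc g * u * g⁻¹ * x = g * u * g⁻¹ * (g * x * g⁻¹) := by rw [h4]
          _ = g * (u * x) * g⁻¹ := by group
          _ = g * (x * u) * g⁻¹ := by rw [c1.eq]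
          _ = (g * x * g⁻¹) * (g * u * g⁻¹) := by group
          _ = x * (g * u * g⁻¹) := by rw [h4]
      · have h3 : g * (z * x) * g⁻¹ = z := by
          calc g * (z * x) * g⁻¹ = (g * z * g⁻¹) * (g * x * g⁻¹) := by group
            _ = z * x * x := by rw [hgz, h4]
            _ = z := by rw [mul_assoc, hxx, mul_one]
        calc g * u * g⁻¹ * z = g * u * g⁻¹ * (g * (z * x) * g⁻¹) := by rw [h3]
          _ = g * (u * (z * x)) * g⁻¹ := by group
          _ = g * ((z * x) * u) * g⁻¹ := by rw [(c2.mul_right c1).eq]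
          _ = (g * (z * x) * g⁻¹) * (g * u * g⁻¹) := by group
          _ = z * (g * u * g⁻¹) := by rw [h3]
    have hMU : MG ≤ U := by
      rintro _ ⟨a, ha, rfl⟩
      rw [hUm]
      exact ⟨(congrArg Subtype.val (d.xM a ha)).symm, hzc a⟩
    have hMn : ∀ u ∈ U, ∀ a ∈ MG, u * a * u⁻¹ ∈ MG := by
      rintro u hu _ ⟨a, ha, rfl⟩
      exact ⟨⟨u, hu.2⟩ * a * ⟨u, hu.2⟩⁻¹, hMn.conj_mem a ha _, rfl⟩
    set N : Subgroup G := D3.cj g MG with hN
    have hNU : N ≤ U := by
      rintro _ ⟨a, ha, rfl⟩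
      exact hUn' a (hMU ha)
    have hNn : ∀ u ∈ U, ∀ a ∈ N, u * a * u⁻¹ ∈ N := by
      rintro u hu _ ⟨a, ha, rfl⟩
      refine ⟨(g⁻¹ * u * g) * a * (g⁻¹ * u * g)⁻¹, hMn _ (hUn u hu) a ha, ?_⟩
      show g * (g⁻¹ * u * g * a * (g⁻¹ * u * g)⁻¹) * g⁻¹ = u * (g * a * g⁻¹) * u⁻¹
      group
    have hNq : IsQuasisimple N :=
      isQuasisimple_of_mulEquiv (MG.equivMapOfInjective (MulAut.conj g).toMonoidHom (MulAut.conj g).injective) hMGq
    have comp : ∀ K : Subgroup G, K ≤ U → IsQuasisimple K → (∀ u ∈ U, ∀ a ∈ K, u * a * u⁻¹ ∈ K) →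
        IsComponent (K.subgroupOf U) := by
      intro K hKU hKq hKn
      have hn : (K.subgroupOf U).Normal := by
        refine ⟨fun a ha u => ?_⟩
        rw [mem_subgroupOf] at ha ⊢
        exact hKn u u.2 a ha
      exact ⟨hn.isSubnormal, (isQuasisimple_congr (Subgroup.subgroupOfEquivOfLe hKU)).2 hKq⟩
    have hNM : N = MG := by
      by_contra hne
      have hne' : N.subgroupOf U ≠ MG.subgroupOf U := by
        intro e
        apply hne
        have := congrArg (Subgroup.map U.subtype) e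
        rwa [Subgroup.map_subgroupOf_eq_of_le hNU, Subgroup.map_subgroupOf_eq_of_le hMU] at this
      have hcomm := fun (a : ↥U) (ha : (a : G) ∈ N) (b : ↥U) (hb : (b : G) ∈ MG) =>
        Cfsg.Agent.Cit.Comp.comm_of_ne (comp N hNU hNq hNn) (comp MG hMU hMGq hMn) hne' (mem_subgroupOf.2 ha)
          (mem_subgroupOf.2 hb)
      have hNp : IsPGroup 2 N := by
        apply hFp
        intro a ha
        have haH : a ∈ (centralizer ({z} : Set G)) := (hNU ha).2
        refine ⟨⟨a, haH⟩, (hFm _).2 fun b hb => Subtype.ext ?_, rfl⟩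
        have h9 : a * (b : G) = b * a :=
          congrArg Subtype.val (hcomm ⟨a, hNU ha⟩ ha ⟨b, hMU ⟨b, hb, rfl⟩⟩ ⟨b, hb, rfl⟩)
        exact h9
      have : Fact (Nat.Prime 2) := ⟨Nat.prime_two⟩
      have hnil : Group.IsNilpotent N := hNp.isNilpotent
      exact quasisimple_not_isSolvable hNq inferInstance
    have h3 : z * x ∈ MG := by
      rw [← hNM, ← hgz]
      exact D3.conj_mem_cj ⟨z', hzM, hz'⟩
    have h4 : (x : G) ∈ MG := by
      have := MG.mul_mem (⟨z', hzM, hz'⟩ : z ∈ MG) h3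
      rwa [← mul_assoc, hzz, one_mul] at this
    obtain ⟨x0, hx0, e0⟩ := h4
    have e1 : x0 = x := Subtype.ext e0
    rw [e1] at hx0
    have h5 := d.cM x hx0
    have h6 := d.cx
    rw [h5, mul_inv_cancel_right] at h6
    exact h.z1 (mul_eq_left.1 h6.symm)

end Cfsg.Agent.OddHalf.D6.QThree.NIB.DirG

end

-- merged: Cfsg.Agent.OddHalf.D6.QThree.NIB.QEight
section

/-!
# A normal quaternion group `Q` of order eight and a normal subgroup `D` with `C_D(Q) ≤ Q`

`dich`: if a 3-element acts nontrivially on `Q`, then `D ≤ Q`, or some normal `J ≤ D` with only one involution is no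
2-group.
-/

set_option autoImplicit false

namespace Cfsg.Agent.OddHalf.D6.QThree.NIB.QEight

open Subgroup

/-- representatives of the three subgroups of order four -/
def P : Fin 3 → QuaternionGroup 2 := ![QuaternionGroup.a 1, QuaternionGroup.xa 0, QuaternionGroup.xa 1]

theorem dec_inv : ∀ q : QuaternionGroup 2, q * q = 1 → q = 1 ∨ q = QuaternionGroup.a 2 := by decide

theorem dec_all : ∀ q : QuaternionGroup 2, q = 1 ∨ q = QuaternionGroup.a 2 ∨
    ∃ b, q = P b ∨ q = P b * QuaternionGroup.a 2 := by decide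

theorem dec_inj : ∀ a b : Fin 3, (P a = P b ∨ P a = P b * QuaternionGroup.a 2) → a = b := by decide

theorem dec_comm : ∀ a b : Fin 3, a ≠ b → P a * P b = P b * P a * QuaternionGroup.a 2 := by decide

theorem dec_two : P 2 = P 0 * P 1 * QuaternionGroup.a 2 := by decide

theorem dec_sq : ∀ a : Fin 3, P a * P a = QuaternionGroup.a 2 := by decide

theorem perm_one : ∀ s : Equiv.Perm (Fin 3), s * s = 1 → Equiv.Perm.sign s = 1 → s = 1 := by decide

theorem perm_three : ∀ s : Equiv.Perm (Fin 3), Equiv.Perm.sign s = 1 → s ^ 3 = 1 := by decide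

theorem perm_comm : ∀ r s : Equiv.Perm (Fin 3), Equiv.Perm.sign s = -1 → Equiv.Perm.sign r = 1 → r * s = s * r →
    r = 1 := by decide

variable {X : Type*} [Group X]

/-- `Q = ⟨p₀, p₁⟩`, `p` representatives of the subgroups of order four -/
structure Rep (z : X) (Q : Subgroup X) (p : Fin 3 → X) : Prop where
  zc : ∀ x : X, x * z = z * x
  zz : z * z = 1
  z1 : z ≠ 1
  mem : ∀ a, p a ∈ Q
  all : ∀ q ∈ Q, q = 1 ∨ q = z ∨ ∃ b, q = p b ∨ q = p b * z
  inj : ∀ a b, (p a = p b ∨ p a = p b * z) → a = b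
  comm : ∀ a b, a ≠ b → p a * p b = p b * p a * z
  two : p 2 = p 0 * p 1 * z
  sq : ∀ a, p a * p a = z

theorem exists_rep {z : X} {Q : Subgroup X} (zc : ∀ x : X, x * z = z * x) (zz : z * z = 1) (z1 : z ≠ 1)
    (hz : z ∈ Q) (e : Q ≃* QuaternionGroup 2) : ∃ p, Rep z Q p := by
  have ez : e ⟨z, hz⟩ = QuaternionGroup.a 2 := by
    rcases dec_inv (e ⟨z, hz⟩) (by rw [← map_mul, show (⟨z, hz⟩ : Q) * ⟨z, hz⟩ = 1 from Subtype.ext zz, map_one]) with h | h
    · exact absurd (congrArg Subtype.val ((map_eq_one_iff e e.injective).1 h)) z1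
    · exact h
  have ez' : ((e.symm (QuaternionGroup.a 2) : Q) : X) = z := by rw [← ez, e.symm_apply_apply]
  refine ⟨fun a => (e.symm (P a) : Q), zc, zz, z1, fun a => (e.symm (P a)).2, fun q hq => ?_, fun a b h => ?_,
    fun a b h => ?_, ?_, fun a => ?_⟩
  · have hq' : q = ((e.symm (e ⟨q, hq⟩) : Q) : X) := by rw [e.symm_apply_apply]
    rcases dec_all (e ⟨q, hq⟩) with h | h | ⟨b, h | h⟩
    · left; rw [hq', h, map_one]; rfl
    · right; left; rw [hq', h, ez']
    · right; right; exact ⟨b, Or.inl (by rw [hq', h])⟩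
    · right; right; exact ⟨b, Or.inr (by rw [hq', h, map_mul, Subgroup.coe_mul, ez'])⟩
  · apply dec_inj
    rcases h with h | h
    · left; exact e.symm.injective (Subtype.ext h)
    · right
      apply e.symm.injective
      apply Subtype.ext
      rw [map_mul, Subgroup.coe_mul, ez']; exact h
  · have := congrArg (fun w => ((e.symm w : Q) : X)) (dec_comm a b h)
    simp only [map_mul, Subgroup.coe_mul, ez'] at this
    exact this
  · have := congrArg (fun w => ((e.symm w : Q) : X)) dec_two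
    simp only [map_mul, Subgroup.coe_mul, ez'] at this
    exact this
  · have := congrArg (fun w => ((e.symm w : Q) : X)) (dec_sq a)
    simp only [map_mul, Subgroup.coe_mul, ez'] at this
    exact this

namespace Rep

variable {z : X} {Q : Subgroup X} {p : Fin 3 → X}

theorem p_ne (h : Rep z Q p) (a : Fin 3) : p a ≠ 1 ∧ p a ≠ z := by
  constructor
  · intro e
    have := h.sq a
    rw [e, one_mul] at this
    exact h.z1 this.symm
  · intro e
    have := h.sq a
    rw [e, h.zz] at this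
    exact h.z1 this.symm

theorem inv_eq (h : Rep z Q p) (a b : Fin 3) (hab : a ≠ b) : p a * p b * (p a)⁻¹ = p b * z := by
  rw [h.comm a b hab, mul_assoc (p b), h.zc (p a), ← mul_assoc, mul_inv_cancel_right]

/-- conjugation permutes the three subgroups -/
theorem exists_act (h : Rep z Q p) (hQ : Q.Normal) (g : X) (a : Fin 3) :
    ∃ b, g * p a * g⁻¹ = p b ∨ g * p a * g⁻¹ = p b * z := by
  rcases h.all _ (hQ.conj_mem _ (h.mem a) g) with e | e | e
  · exact absurd (conj_eq_one_iff.1 e) (h.p_ne a).1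
  · exfalso
    apply (h.p_ne a).2
    calc p a = g⁻¹ * (g * p a * g⁻¹) * g := by group
      _ = z := by rw [e, h.zc g⁻¹, inv_mul_cancel_right]
  · exact e

theorem mul_z (h : Rep z Q p) {x y : X} (e : x = y * z) : y = x * z := by
  rw [e, mul_assoc, h.zz, mul_one]

theorem unique (h : Rep z Q p) {x : X} {a b : Fin 3} (ha : x = p a ∨ x = p a * z) (hb : x = p b ∨ x = p b * z) :
    a = b := by
  apply h.inj
  rcases ha with ha | ha <;> rcases hb with hb | hb
  · left; rw [← ha, hb]
  · right; rw [← ha, hb]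
  · right; exact h.mul_z (by rw [← hb, ha])
  · left; rw [h.mul_z ha, h.mul_z hb]

/-- the action on the three subgroups -/
noncomputable def act (h : Rep z Q p) (hQ : Q.Normal) (g : X) (a : Fin 3) : Fin 3 := (h.exists_act hQ g a).choose

theorem act_spec (h : Rep z Q p) (hQ : Q.Normal) (g : X) (a : Fin 3) :
    g * p a * g⁻¹ = p (h.act hQ g a) ∨ g * p a * g⁻¹ = p (h.act hQ g a) * z := (h.exists_act hQ g a).choose_spec

theorem act_eq (h : Rep z Q p) (hQ : Q.Normal) {g : X} {a b : Fin 3}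
    (hb : g * p a * g⁻¹ = p b ∨ g * p a * g⁻¹ = p b * z) : h.act hQ g a = b := h.unique (h.act_spec hQ g a) hb

theorem act_mul (h : Rep z Q p) (hQ : Q.Normal) (g k : X) (a : Fin 3) :
    h.act hQ (g * k) a = h.act hQ g (h.act hQ k a) := by
  apply h.act_eq
  set b := h.act hQ k a with hb
  have e0 : g * k * p a * (g * k)⁻¹ = g * (k * p a * k⁻¹) * g⁻¹ := by group
  have key : ∀ w : X, g * (w * z) * g⁻¹ = g * w * g⁻¹ * z := by
    intro w
    calc g * (w * z) * g⁻¹ = g * w * (z * g⁻¹) := by group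
      _ = g * w * (g⁻¹ * z) := by rw [h.zc g⁻¹]
      _ = g * w * g⁻¹ * z := by group
  rcases h.act_spec hQ k a with e | e <;> rcases h.act_spec hQ g b with e' | e' <;> rw [e0, e]
  · left; exact e'
  · right; exact e'
  · right; rw [key, e']
  · left; rw [key, e', mul_assoc, h.zz, mul_one]

theorem act_one (h : Rep z Q p) (hQ : Q.Normal) (a : Fin 3) : h.act hQ 1 a = a :=
  h.act_eq hQ (Or.inl (by rw [one_mul, inv_one, mul_one]))

/-- the homomorphism to the symmetric group -/
noncomputable def hom (h : Rep z Q p) (hQ : Q.Normal) : X →* Equiv.Perm (Fin 3) where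
  toFun g := ⟨h.act hQ g, h.act hQ g⁻¹, fun a => by rw [← h.act_mul, inv_mul_cancel, h.act_one],
    fun a => by rw [← h.act_mul, mul_inv_cancel, h.act_one]⟩
  map_one' := Equiv.ext (h.act_one hQ)
  map_mul' g k := Equiv.ext (h.act_mul hQ g k)

theorem hom_apply (h : Rep z Q p) (hQ : Q.Normal) (g : X) (a : Fin 3) : h.hom hQ g a = h.act hQ g a := rfl

theorem hom_Q (h : Rep z Q p) (hQ : Q.Normal) {q : X} (hq : q ∈ Q) : h.hom hQ q = 1 := by
  have hp : ∀ b, h.hom hQ (p b) = 1 := by
    intro b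
    refine Equiv.ext fun a => ?_
    rw [hom_apply, Equiv.Perm.one_apply]
    apply h.act_eq
    by_cases e : b = a
    · left; rw [e]; group
    · right; exact h.inv_eq b a e
  have hz : h.hom hQ z = 1 := by
    have h1 := congrArg (h.hom hQ) (h.sq 0)
    rw [map_mul, hp, one_mul] at h1
    exact h1.symm
  rcases h.all q hq with e | e | ⟨b, e | e⟩
  · rw [e, map_one]
  · rw [e, hz]
  · rw [e, hp]
  · rw [e, map_mul, hp, hz, one_mul]

theorem of_hom (h : Rep z Q p) (hQ : Q.Normal) {g : X} (hg : h.hom hQ g = 1) (a : Fin 3) :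
    g * p a * g⁻¹ = p a ∨ g * p a * g⁻¹ = p a * z := by
  have h1 := h.act_spec hQ g a
  rw [← hom_apply, hg, Equiv.Perm.one_apply] at h1
  exact h1

theorem comm_of (h : Rep z Q p) {g : X} (h0 : g * p 0 = p 0 * g) (h1 : g * p 1 = p 1 * g) : ∀ q ∈ Q, g * q = q * g := by
  have c0 : Commute g (p 0) := h0
  have c1 : Commute g (p 1) := h1
  have cz : Commute g z := h.zc g
  have hp : ∀ b, Commute g (p b) := by
    intro b
    match b with
    | 0 => exact c0
    | 1 => exact c1
    | 2 => rw [h.two]; exact (c0.mul_right c1).mul_right cz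
  intro q hq
  rcases h.all q hq with e | e | ⟨b, e | e⟩ <;> rw [e]
  · rw [one_mul, mul_one]
  · exact cz.eq
  · exact (hp b).eq
  · exact ((hp b).mul_right cz).eq

/-- an element which fixes the three subgroups induces an inner automorphism -/
theorem exists_inner (h : Rep z Q p) (hQ : Q.Normal) {g : X} (hg : h.hom hQ g = 1) :
    ∃ q ∈ Q, ∀ x ∈ Q, (q * g) * x = x * (q * g) := by
  have key : ∀ q a, q * p a * q⁻¹ = p a * z → g * p a * g⁻¹ = p a * z → (q * g) * p a = p a * (q * g) := by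
    intro q a h1 h2
    have h3 : q * g * p a * (q * g)⁻¹ = p a := by
      calc q * g * p a * (q * g)⁻¹ = q * (g * p a * g⁻¹) * q⁻¹ := by group
        _ = q * p a * (z * q⁻¹) := by rw [h2]; group
        _ = (q * p a * q⁻¹) * z := by rw [← h.zc q⁻¹]; group
        _ = p a := by rw [h1, mul_assoc, h.zz, mul_one]
    rwa [mul_inv_eq_iff_eq_mul] at h3
  have key' : ∀ q a, q * p a * q⁻¹ = p a → g * p a * g⁻¹ = p a → (q * g) * p a = p a * (q * g) := by
    intro q a h1 h2
    have h3 : q * g * p a * (q * g)⁻¹ = p a := by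
      calc q * g * p a * (q * g)⁻¹ = q * (g * p a * g⁻¹) * q⁻¹ := by group
        _ = p a := by rw [h2, h1]
    rwa [mul_inv_eq_iff_eq_mul] at h3
  have hself : ∀ a, p a * p a * (p a)⁻¹ = p a := fun a => mul_inv_cancel_right _ _
  have h01 := h.inv_eq 0 1 (by decide)
  have h10 := h.inv_eq 1 0 (by decide)
  have h20 := h.inv_eq 2 0 (by decide)
  have h21 := h.inv_eq 2 1 (by decide)
  rcases h.of_hom hQ hg 0 with e0 | e0 <;> rcases h.of_hom hQ hg 1 with e1 | e1
  · refine ⟨1, Q.one_mem, h.comm_of (key' 1 0 (by group) e0) (key' 1 1 (by group) e1)⟩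
  · exact ⟨p 0, h.mem 0, h.comm_of (key' _ 0 (hself 0) e0) (key _ 1 h01 e1)⟩
  · exact ⟨p 1, h.mem 1, h.comm_of (key _ 0 h10 e0) (key' _ 1 (hself 1) e1)⟩
  · exact ⟨p 2, h.mem 2, h.comm_of (key _ 0 h20 e0) (key _ 1 h21 e1)⟩

/-- an element of odd order which fixes the three subgroups centralises `Q` -/
theorem comm_of_odd (h : Rep z Q p) (hQ : Q.Normal) {g : X} (hg : h.hom hQ g = 1) {n : ℕ} (hn : Odd n)
    (hgn : g ^ n = 1) : ∀ q ∈ Q, g * q = q * g := by
  have key : ∀ a, g * g * p a = p a * (g * g) := by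
    intro a
    have h3 : g * g * p a * (g * g)⁻¹ = p a := by
      rcases h.of_hom hQ hg a with e | e
      · calc g * g * p a * (g * g)⁻¹ = g * (g * p a * g⁻¹) * g⁻¹ := by group
          _ = p a := by rw [e, e]
      · calc g * g * p a * (g * g)⁻¹ = g * (g * p a * g⁻¹) * g⁻¹ := by group
          _ = g * p a * (z * g⁻¹) := by rw [e]; group
          _ = (g * p a * g⁻¹) * z := by rw [← h.zc g⁻¹]; group
          _ = p a := by rw [e, mul_assoc, h.zz, mul_one]
    rwa [mul_inv_eq_iff_eq_mul] at h3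
  have h2 := h.comm_of (key 0) (key 1)
  obtain ⟨k, hk⟩ := hn
  have h3 : g = (g * g) ^ (k + 1) := by
    rw [← pow_two, ← pow_mul]
    have : 2 * (k + 1) = n + 1 := by omega
    rw [this, pow_succ, hgn, one_mul]
  intro q hq
  have c : Commute (g * g) q := h2 q hq
  rw [h3]
  exact (c.pow_left (k + 1)).eq

end Rep

/-- **the dichotomy** -/
theorem dich {z : X} {Q D : Subgroup X} {p : Fin 3 → X} (h : Rep z Q p) (hQ : Q.Normal) (hD : D.Normal) (hQD : Q ≤ D)
    (hC : ∀ d ∈ D, (∀ q ∈ Q, d * q = q * d) → d ∈ Q) {c : X} {k : ℕ} (hc : c ^ 3 ^ k = 1)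
    (hcQ : ∃ q ∈ Q, c * q ≠ q * c) :
    D ≤ Q ∨ ∃ J : Subgroup X, J.Normal ∧ Q ≤ J ∧ J ≤ D ∧ ¬ IsPGroup 2 J ∧ ∀ u ∈ J, u * u = 1 → u = 1 ∨ u = z := by
  set f : X →* ℤˣ := Equiv.Perm.sign.comp (h.hom hQ) with hf
  have hfa : ∀ x, f x = Equiv.Perm.sign (h.hom hQ x) := fun x => rfl
  have hone : ∀ d ∈ D, h.hom hQ d = 1 → d ∈ Q := by
    intro d hd hd1
    obtain ⟨q, hq, hqd⟩ := h.exists_inner hQ hd1
    have h1 := hC (q * d) (D.mul_mem (hQD hq) hd) hqd
    exact (Q.mul_mem_cancel_left hq).1 h1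
  set J : Subgroup X := D ⊓ f.ker with hJ
  have hJn : J.Normal := by rw [hJ]; infer_instance
  have hQJ : Q ≤ J := by
    intro q hq
    refine ⟨hQD hq, ?_⟩
    show f q = 1
    rw [hfa, h.hom_Q hQ hq, map_one]
  have hJu : ∀ u ∈ J, u * u = 1 → u = 1 ∨ u = z := by
    intro u hu huu
    have h1 : h.hom hQ u = 1 := by
      apply perm_one
      · rw [← map_mul, huu, map_one]
      · exact hu.2
    rcases h.all u (hone u hu.1 h1) with e | e | ⟨b, e | e⟩
    · exact Or.inl e
    · exact Or.inr e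
    · exfalso
      rw [e, h.sq] at huu
      exact h.z1 huu
    · exfalso
      apply h.z1
      rw [← huu, e]
      calc z = (p b * p b) * (z * z) := by rw [h.sq, h.zz, mul_one]
        _ = p b * (p b * z) * z := by group
        _ = p b * (z * p b) * z := by rw [h.zc (p b)]
        _ = p b * z * (p b * z) := by group
  by_cases hJp : IsPGroup 2 J
  swap
  · exact Or.inr ⟨J, hJn, hQJ, inf_le_left, hJp, hJu⟩
  left
  have hJQ : J ≤ Q := by
    intro u hu
    apply hone u hu.1
    obtain ⟨n, hn⟩ := hJp ⟨u, hu⟩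
    have hn' : u ^ 2 ^ n = 1 := congrArg Subtype.val hn
    have h1 : (h.hom hQ u) ^ 3 = 1 := perm_three _ hu.2
    have h2 : (h.hom hQ u) ^ 2 ^ n = 1 := by rw [← map_pow, hn', map_one]
    have h3 := orderOf_dvd_of_pow_eq_one h1
    have h4 := orderOf_dvd_of_pow_eq_one h2
    have h5 : orderOf (h.hom hQ u) ∣ 1 := by
      have : Nat.Coprime 3 (2 ^ n) := Nat.Coprime.pow_right n (by norm_num)
      rw [← this.gcd_eq_one]
      exact Nat.dvd_gcd h3 h4
    exact orderOf_eq_one_iff.1 (Nat.dvd_one.1 h5)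
  by_contra hDQ
  obtain ⟨d, hd, hdQ⟩ := SetLike.not_le_iff_exists.1 hDQ
  have hfd : f d = -1 := by
    rcases Int.units_eq_one_or (f d) with e | e
    · exact absurd (hJQ ⟨hd, e⟩) hdQ
    · exact e
  have hd' : c * d * c⁻¹ ∈ D := hD.conj_mem d hd c
  have hfd' : f (c * d * c⁻¹) = -1 := by
    rw [map_mul, map_mul, mul_comm (f c), mul_assoc, ← map_mul, mul_inv_cancel, map_one, mul_one, hfd]
  have h1 : c * d * c⁻¹ * d⁻¹ ∈ Q := by
    apply hJQ
    refine ⟨D.mul_mem hd' (D.inv_mem hd), ?_⟩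
    show f _ = 1
    rw [map_mul, hfd', map_inv, hfd]
    decide
  have h2 := h.hom_Q hQ h1
  have h3 : h.hom hQ c * h.hom hQ d = h.hom hQ d * h.hom hQ c := by
    rw [map_mul, map_mul, map_mul, map_inv, map_inv, mul_inv_eq_one, mul_inv_eq_iff_eq_mul] at h2
    exact h2
  have hodd : Odd (3 ^ k) := Odd.pow (by decide)
  have h4 : Equiv.Perm.sign (h.hom hQ c) = 1 := by
    rcases Int.units_eq_one_or (Equiv.Perm.sign (h.hom hQ c)) with e | e
    · exact e
    · exfalso
      have h5 : (Equiv.Perm.sign (h.hom hQ c)) ^ 3 ^ k = 1 := by rw [← map_pow, ← map_pow, hc, map_one, map_one]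
      rw [e, hodd.neg_one_pow] at h5
      exact absurd h5 (by decide)
  have h5 := perm_comm _ _ (by rw [← hfa]; exact hfd) h4 h3
  obtain ⟨q, hq, hcq⟩ := hcQ
  exact hcq (h.comm_of_odd hQ h5 hodd hc q hq)

end Cfsg.Agent.OddHalf.D6.QThree.NIB.QEight

end

-- merged: Cfsg.Agent.OddHalf.D6.QThree.NIB.DirEnd
section

/-!
# ODD half, D6, `q = 3`, NI with `B`: the end of the case `R ≤ M` (text of helper801, bb #14694, (5))

`false_of`: no component of `C_G(z)` contains `Q₁` and `Q₂`. Hypotheses: `Intr2`, `IntrSign`, and `hcy` (a standard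
subgroup `K` with `m_2(C(K)) ≤ 1` has cyclic Sylow 2-subgroups of `C(K)`: `OddHalf.Cyc.cyc`, or node Q).
-/

set_option autoImplicit false

namespace Cfsg.Agent.OddHalf.D6.QThree.NIB.DirEnd

open Subgroup Cfsg
open Cfsg.Agent.OddHalf Cfsg.Agent.OddHalf.Iface
open Cfsg.Agent.OddHalf.CaseM (rank_two compOf_map)
open Cfsg.Agent.SignalizersComponents.Components
open Cfsg.Agent.OddHalf.D6.QThree.NIB.Dir

universe u

variable {G : Type u} [Group G]

/-- a subgroup with one involution has rank one -/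
theorem rank_one {J : Subgroup G} {z : G} (hz : orderOf z = 2) (hJ : ∀ u ∈ J, u * u = 1 → u = 1 ∨ u = z) :
    PRankLE 2 1 ↥J := by
  intro E _ hE
  have h1 : E.map J.subtype ≤ zpowers z := by
    rintro _ ⟨x, hx, rfl⟩
    have h2 : (x : G) * x = 1 := by
      have := congrArg Subtype.val (hE x hx)
      rw [pow_two] at this
      exact this
    show (x : G) ∈ zpowers z
    rcases hJ x x.2 h2 with e | e
    · rw [e]; exact one_mem _
    · rw [e]; exact mem_zpowers z
  have h2 : Finite (zpowers z) := by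
    apply Nat.finite_of_card_ne_zero
    rw [Nat.card_zpowers, hz]; norm_num
  have h3 : Nat.card (E.map J.subtype) ≤ Nat.card (zpowers z) :=
    Nat.card_le_card_of_injective (inclusion h1) (inclusion_injective h1)
  rw [Nat.card_zpowers, hz, ← Nat.card_congr (E.equivMapOfInjective _ J.subtype_injective).toEquiv] at h3
  exact h3

/-- a 2-group `C(K)` with cyclic Sylow 2-subgroups is abelian -/
theorem comm_of_cyc {K : Subgroup G} (h : Cyc K) (hp : IsPGroup 2 ↥(centralizer (K : Set G))) {x y : G}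
    (hx : x ∈ centralizer (K : Set G)) (hy : y ∈ centralizer (K : Set G)) : x * y = y * x := by
  obtain ⟨R, hR⟩ := (hp.to_subgroup ⊤).exists_le_sylow
  have hcR : IsCyclic ↥(R : Subgroup ↥(centralizer (K : Set G))) := h R
  have hcm := hcR.isMulCommutative
  have h1 := hcm.is_comm.comm (⟨⟨x, hx⟩, hR (mem_top _)⟩ : ↥(R : Subgroup ↥(centralizer (K : Set G))))
    ⟨⟨y, hy⟩, hR (mem_top _)⟩
  exact congrArg (fun w : ↥(R : Subgroup ↥(centralizer (K : Set G))) => ((w : ↥(centralizer (K : Set G))) : G)) h1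

/-- no component with `z` as its only involution -/
theorem no_CA (hGW : SylowSp4.Hyps.GW.{u}) (C : Ctx G) {z : G} (hz : orderOf z = 2)
    {z' : ↥(centralizer ({z} : Set G))} (hz' : (z' : G) = z) (h : NI.Hyp.CA z') : False := by
  obtain ⟨M, hM, hzM, hu⟩ := h
  refine rank_two C hGW hz (compOf_map hM) ⟨z', hzM, hz'⟩ (rank_one hz ?_)
  rintro _ ⟨u, hu', rfl⟩ huu
  rcases hu u hu' (Subtype.ext huu) with e | e
  · left; rw [e]; rfl
  · right; rw [e]; exact hz'

/-- `C(M)` does not contain a normal `Q₈` with `C_{C(M)}(Q₈) ≤ Q₈` -/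
theorem no_Q8 (hGW : SylowSp4.Hyps.GW.{u}) (C : Ctx G)
    (hcy : ∀ K : Subgroup G, Std0 G K → PRankLE 2 1 ↥(centralizer (K : Set G)) → Cyc K)
    {z : G} (hz : orderOf z = 2) {z' : ↥(centralizer ({z} : Set G))} (hz' : (z' : G) = z)
    {M : Subgroup ↥(centralizer ({z} : Set G))} (hM : IsComponent M) (hMn : M.Normal) (hzM : z' ∈ M)
    {Q : Subgroup ↥(centralizer ({z} : Set G))} (hQ : Q.Normal) (hzQ : z' ∈ Q) (e : Q ≃* QuaternionGroup 2)
    (hQM : ∀ q ∈ Q, ∀ y ∈ M, q * y = y * q)
    (hC : ∀ f : ↥(centralizer ({z} : Set G)), (∀ y ∈ M, f * y = y * f) → (∀ q ∈ Q, f * q = q * f) → f ∈ Q) :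
    False := by
  have hfin := C.fin
  have hsimp := C.simple
  have hcard : Nat.card Q = 8 := by
    rw [Nat.card_congr e.toEquiv, Nat.card_eq_fintype_card, QuaternionGroup.card]
  have hQp : IsPGroup 2 Q := IsPGroup.of_card (n := 3) (by rw [hcard]; norm_num)
  have b : Quat.Base0 z (Q.map (centralizer ({z} : Set G)).subtype) := by
    refine ⟨hz, ⟨z', hzQ, hz'⟩, hQp.map _, ⟨0, ⟨?_⟩⟩, map_subtype_le _, ?_⟩
    · exact (Q.equivMapOfInjective _ (centralizer ({z} : Set G)).subtype_injective).symm.trans e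
    · intro g hg
      rw [mem_normalizer_iff]
      intro x
      constructor
      · rintro ⟨q, hq, rfl⟩
        exact ⟨⟨g, hg⟩ * q * ⟨g, hg⟩⁻¹, hQ.conj_mem q hq _, rfl⟩
      · rintro ⟨q, hq, hqx⟩
        refine ⟨⟨g, hg⟩⁻¹ * q * ⟨g, hg⟩⁻¹⁻¹, hQ.conj_mem q hq _, ?_⟩
        show g⁻¹ * (q : G) * g⁻¹⁻¹ = x
        have hqx' : (q : G) = g * x * g⁻¹ := hqx
        rw [hqx']; group
  obtain ⟨c, hc, ⟨k, hck⟩, _, ⟨q', hq', rfl⟩, hcq⟩ := b.exists_three C.na
  have zc : ∀ x : ↥(centralizer ({z} : Set G)), x * z' = z' * x := fun x => by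
    apply Subtype.ext
    show (x : G) * z' = z' * x
    have : ∀ w : G, w = z → (x : G) * w = w * x := by
      rintro w rfl
      exact mem_centralizer_singleton_iff.1 x.2
    exact this _ hz'
  have z1 : z' ≠ 1 := by
    intro e1
    have h1 : z = 1 := by rw [← hz', e1]; rfl
    rw [h1, orderOf_one] at hz
    omega
  have zz : z' * z' = 1 := by
    apply Subtype.ext
    show (z' : G) * z' = 1
    rw [hz', ← pow_two, ← hz, pow_orderOf_eq_one]
  obtain ⟨p, hp⟩ := QEight.exists_rep zc zz z1 hzQ e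
  have hDm : ∀ f, f ∈ centralizer (M : Set ↥(centralizer ({z} : Set G))) ↔ ∀ y ∈ M, f * y = y * f := by
    intro f
    rw [mem_centralizer_iff]
    exact ⟨fun h3 y hy => (h3 y hy).symm, fun h3 y hy => (h3 y hy).symm⟩
  have hDn : (centralizer (M : Set ↥(centralizer ({z} : Set G)))).Normal := by
    refine ⟨fun f hf g => ?_⟩
    rw [hDm] at hf ⊢
    intro y hy
    have h3 : g⁻¹ * y * g ∈ M := by
      have := hMn.conj_mem y hy g⁻¹
      rwa [inv_inv] at this
    have h4 := hf _ h3
    calc g * f * g⁻¹ * y = g * (f * (g⁻¹ * y * g)) * g⁻¹ := by group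
      _ = g * ((g⁻¹ * y * g) * f) * g⁻¹ := by rw [h4]
      _ = y * (g * f * g⁻¹) := by group
  rcases QEight.dich hp hQ hDn (fun q hq => (hDm q).2 (hQM q hq)) (fun d hd hdq => hC d ((hDm d).1 hd) hdq)
    (c := ⟨c, hc⟩) (k := k) (Subtype.ext hck) ⟨q', hq', fun e1 => hcq (congrArg Subtype.val e1)⟩ with
    hDQ | ⟨J, hJn, hQJ, -, hJp, hJu⟩
  swap
  · -- `J` has one involution
    apply hJp
    have hsub : (J.map (centralizer ({z} : Set G)).subtype).subgroupOf (centralizer ({z} : Set G)) = J :=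
      comap_map_eq_self_of_injective (centralizer ({z} : Set G)).subtype_injective J
    have h1 : IsPGroup 2 (J.map (centralizer ({z} : Set G)).subtype) :=
      Quat.isPGroup_of_classical hGW hz ⟨z', hQJ hzQ, hz'⟩ (map_subtype_le _)
        (by rw [hsub]; exact hJn.isSubnormal) (C.bal z hz) (rank_one hz (by
          rintro _ ⟨u, hu, rfl⟩ huu
          rcases hJu u hu (Subtype.ext huu) with e1 | e1
          · left; rw [e1]; rfl
          · right; rw [e1]; exact hz')) (fun L hL => C.classical z L hz hL)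
    exact h1.of_equiv (J.equivMapOfInjective _ (centralizer ({z} : Set G)).subtype_injective).symm
  · -- `C_G(M) = Q`
    have hcomp := compOf_map hM
    have hCG : ∀ x ∈ centralizer ((M.map (centralizer ({z} : Set G)).subtype : Subgroup G) : Set G),
        ∃ f ∈ Q, (f : G) = x := by
      intro x hx
      have hxz : x * z = z * x := (mem_centralizer_iff.1 hx z ⟨z', hzM, hz'⟩).symm
      refine ⟨⟨x, mem_centralizer_singleton_iff.2 hxz⟩, hDQ ((hDm _).2 fun y hy => Subtype.ext ?_), rfl⟩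
      exact (mem_centralizer_iff.1 hx y ⟨y, hy, rfl⟩).symm
    have hCG' : ∀ f ∈ Q, (f : G) ∈ centralizer ((M.map (centralizer ({z} : Set G)).subtype : Subgroup G) : Set G) := by
      intro f hf
      rw [mem_centralizer_iff]
      rintro _ ⟨y, hy, rfl⟩
      exact (congrArg Subtype.val (hQM f hf y hy)).symm
    have hpg : ∀ K : Subgroup G, (∀ x ∈ K, ∃ f ∈ Q, (f : G) = x) → IsPGroup 2 K := by
      rintro K hK ⟨x, hx⟩
      obtain ⟨f, hf, rfl⟩ := hK x hx
      obtain ⟨n, hn⟩ := hQp ⟨f, hf⟩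
      exact ⟨n, Subtype.ext (congrArg (fun w : ↥Q => ((w : ↥(centralizer ({z} : Set G))) : G)) hn)⟩
    have huniq : ∀ u ∈ centralizer ((M.map (centralizer ({z} : Set G)).subtype : Subgroup G) : Set G),
        u * u = 1 → u = 1 ∨ u = z := by
      intro u hu huu
      obtain ⟨f, hf, rfl⟩ := hCG u hu
      have hff : f * f = 1 := Subtype.ext huu
      rcases hp.all f hf with e1 | e1 | ⟨a, e1 | e1⟩
      · left; rw [e1]; rfl
      · right; rw [e1]; exact hz'
      · exfalso
        rw [e1, hp.sq] at hff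
        exact z1 hff
      · exfalso
        apply z1
        rw [← hff, e1]
        calc z' = (p a * p a) * (z' * z') := by rw [hp.sq, zz, mul_one]
          _ = p a * (p a * z') * z' := by group
          _ = p a * (z' * p a) * z' := by rw [zc (p a)]
          _ = p a * z' * (p a * z') := by group
    have hst : IsStandardSubgroup (M.map (centralizer ({z} : Set G)).subtype) := by
      refine Cfsg.Agent.S1306.result z hz _ hcomp.1 hcomp.2 ?_ ?_
      · intro y hy hyM
        have h1 : y = z := by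
          rcases huniq y hyM (by rw [← pow_two, ← hy, pow_orderOf_eq_one]) with e1 | e1
          · exfalso
            rw [e1, orderOf_one] at hy
            omega
          · exact e1
        rw [h1]
        exact hcomp
      · intro g _ hcomm
        have h1 : (M.map (centralizer ({z} : Set G)).subtype).map (MulAut.conj g).toMonoidHom ≤
            centralizer ((M.map (centralizer ({z} : Set G)).subtype : Subgroup G) : Set G) := by
          rw [← commutator_eq_bot_iff_le_centralizer, commutator_comm]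
          exact hcomm
        have h2 : IsPGroup 2 ((M.map (centralizer ({z} : Set G)).subtype).map (MulAut.conj g).toMonoidHom) :=
          hpg _ fun x hx => hCG x (h1 hx)
        have h3 : IsPGroup 2 M := (h2.of_equiv ((M.map (centralizer ({z} : Set G)).subtype).equivMapOfInjective
          (MulAut.conj g).toMonoidHom (MulAut.conj g).injective).symm).of_equiv
          (M.equivMapOfInjective _ (centralizer ({z} : Set G)).subtype_injective).symm
        have : Fact (Nat.Prime 2) := ⟨Nat.prime_two⟩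
        have hnil : Group.IsNilpotent M := h3.isNilpotent
        exact quasisimple_not_isSolvable hM.2 inferInstance
    have hcyc := hcy _ (Main.std0_of_standard hGW C hst) (rank_one hz huniq)
    have hCp : IsPGroup 2 ↥(centralizer ((M.map (centralizer ({z} : Set G)).subtype : Subgroup G) : Set G)) :=
      hpg _ hCG
    have key : ∀ x ∈ Q, ∀ y ∈ Q, x * y = y * x := fun x hx y hy =>
      Subtype.ext (comm_of_cyc hcyc hCp (hCG' x hx) (hCG' y hy))
    have h1 := key _ (hp.mem 0) _ (hp.mem 1)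
    rw [hp.comm 0 1 (by decide)] at h1
    exact z1 (mul_eq_left.1 h1)

/-- **the case `R ≤ M`** -/
theorem false_of (hGW : SylowSp4.Hyps.GW.{u}) (I : Intr2.{u}) (hS : CaseM.IntrSign.{u}) (C : Ctx G)
    (hcy : ∀ K : Subgroup G, Std0 G K → PRankLE 2 1 ↥(centralizer (K : Set G)) → Cyc K)
    {z : G} (hz : orderOf z = 2) {z' t' a₁ a₂ : ↥(centralizer ({z} : Set G))} (hz' : (z' : G) = z)
    {Q₁ Q₂ : Subgroup ↥(centralizer ({z} : Set G))} (h : HypB z' t' a₁ a₂ Q₁ Q₂)
    (hf : ∃ q₁ ∈ Q₁, ∃ q₂ ∈ Q₂, q₁ * q₁ = z' ∧ q₂ * q₂ = z' ∧ ∃ g : G, g * z * g⁻¹ = (q₁ : G) * q₂)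
    {M : Subgroup ↥(centralizer ({z} : Set G))} (hM : IsComponent M) (h1 : Q₁ ≤ M) (h2 : Q₂ ≤ M) : False := by
  have hfin := C.fin
  obtain ⟨q₁, hq₁, q₂, hq₂, hqq₁, hqq₂, g, hg⟩ := hf
  have hMn : M.Normal := normal h hM h1 h2 (DirG.grow C.bal hz hz' h hq₁ hq₂ hqq₁ hqq₂ hg)
  have hzM : z' ∈ M := h1 h.s₁.zQ
  have hzM' : (⟨z, mem_centralizer_singleton_iff.2 rfl⟩ : ↥(centralizer ({z} : Set G))) ∈ M := by
    have : (⟨z, mem_centralizer_singleton_iff.2 rfl⟩ : ↥(centralizer ({z} : Set G))) = z' := Subtype.ext hz'.symm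
    rwa [this]
  by_cases htM : t' ∈ M ⊔ centralizer (M : Set ↥(centralizer ({z} : Set G)))
  swap
  · exact CaseC.EndComp.false_of_out_sign C hGW hS hz hM hMn hzM' h.tt (no_lam h) htM
  rcases main h hM h1 h2 hMn htM with hca | ⟨c, -, hc⟩ | ⟨Q, hQn, hzQ, -, ⟨e⟩, hQM, hQC⟩ | ⟨m, c, x, d⟩
  · exact no_CA hGW C hz hz' hca
  · refine CaseC.EndComp.false_of_cent I C hz hM hzM' (y := c) fun f hf => ?_
    rw [mem_centralizer_iff] at hf
    exact hc f fun y hy => (hf y hy).symm
  · exact no_Q8 hGW C hcy hz hz' hM hMn hzM hQn hzQ e hQM hQC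
  · exact DirG.no_DE (Front.FE.index_ne_two C) hz' h hM h1 h2 hMn d

end Cfsg.Agent.OddHalf.D6.QThree.NIB.DirEnd

end

-- merged: Cfsg.Agent.OddHalf.D6.QThree.NIB.End
section

/-!
# ODD half, D6, `q = 3`, NI with `B`: the assembly (helper135)

`false_of`: `HypB` with (F) and the trichotomy for the reflections is impossible, if no component contains both `Q₁`
and `Q₂` (helper911's `DirG`).
-/

set_option autoImplicit false

namespace Cfsg.Agent.OddHalf.D6.QThree.NIB.End

open Subgroup Cfsg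
open Cfsg.Agent.OddHalf Cfsg.Agent.OddHalf.Iface
open Cfsg.Agent.OddHalf.CaseM (rank_two compOf_map)
open Cfsg.Agent.Cit (cj mem_cj conj_mem_cj)
open Cfsg.Agent.OddHalf.D6.QThree.NISide
open Cfsg.Agent.OddHalf.D6.QThree.NI.Hyp (CA)

/-- the conjugation by `p` maps `Q₁` onto `Q₂` -/
theorem le_cj {X : Type*} [Group X] {z t a₁ a₂ p : X} {Q₁ Q₂ M : Subgroup X} (s₁ : Side z t a₁ Q₁ Q₂)
    (s₂ : Side z t a₂ Q₂ Q₁) (hp : ∀ x ∈ Q₁, p * x * p⁻¹ ∈ Q₂) (hM : Q₁ ≤ M) : Q₂ ≤ cj p M := by
  have := s₂.finite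
  have h1 : Q₁.map (MulAut.conj p).toMonoidHom = Q₂ := by
    apply Subgroup.eq_of_le_of_card_ge
    · rintro _ ⟨x, hx, rfl⟩
      exact hp x hx
    · rw [s₂.card, ← s₁.card]
      exact (Nat.card_congr (Q₁.equivMapOfInjective _ (MulAut.conj p).injective).toEquiv).le
  rw [← h1]
  rintro _ ⟨x, hx, rfl⟩
  exact conj_mem_cj (hM hx)

universe u

variable {G : Type u} [Group G]

/-- a component with `z` as its only involution -/
theorem false_of_CA (hGW : SylowSp4.Hyps.GW.{u}) (C : Ctx G) {z : G} (hz : orderOf z = 2)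
    {z' : ↥(centralizer ({z} : Set G))} (hz' : (z' : G) = z) (h : CA z') : False := by
  obtain ⟨M₁, hM₁, hzM₁, huniq⟩ := h
  have hcomp := compOf_map hM₁
  refine rank_two C hGW hz hcomp ⟨_, hzM₁, hz'⟩ ?_
  intro E _ hE
  have hEz : ∀ x ∈ E, x = 1 ∨ ((x : ↥(M₁.map (centralizer ({z} : Set G)).subtype)) : G) = z := by
    intro x hx
    obtain ⟨y, hy, hyx⟩ := x.2
    have h1 : ((x : ↥(M₁.map (centralizer ({z} : Set G)).subtype)) : G) *
        ((x : ↥(M₁.map (centralizer ({z} : Set G)).subtype)) : G) = 1 := by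
      have := congrArg Subtype.val (hE x hx)
      rw [pow_two] at this
      exact this
    have hyx' : (y : G) = ((x : ↥(M₁.map (centralizer ({z} : Set G)).subtype)) : G) := hyx
    rcases huniq y hy (Subtype.ext (by
      show (y : G) * y = 1
      rw [hyx']; exact h1)) with e | e
    · left
      apply Subtype.ext
      rw [← hyx', e]; rfl
    · right
      rw [← hyx', e, hz']
  have hle : E ≤ zpowers (⟨z, ⟨z', hzM₁, hz'⟩⟩ : ↥(M₁.map (centralizer ({z} : Set G)).subtype)) := by
    intro x hx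
    rcases hEz x hx with e | e
    · rw [e]; exact one_mem _
    · have : x = ⟨z, ⟨z', hzM₁, hz'⟩⟩ := Subtype.ext e
      rw [this]; exact mem_zpowers _
  have hfin := C.fin
  have hcard := Subgroup.card_le_of_le hle
  rw [Nat.card_zpowers] at hcard
  have ho : orderOf (⟨z, ⟨z', hzM₁, hz'⟩⟩ : ↥(M₁.map (centralizer ({z} : Set G)).subtype)) = 2 := by
    rw [← Subgroup.orderOf_coe]; exact hz
  rw [ho] at hcard
  exact hcard

/-- **NI with `B`**: the assembly -/
theorem false_of (hGW : SylowSp4.Hyps.GW.{u}) (C : Ctx G) {z : G} (hz : orderOf z = 2)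
    {z' t' a₁ a₂ : ↥(centralizer ({z} : Set G))} (hz' : (z' : G) = z)
    {Q₁ Q₂ : Subgroup ↥(centralizer ({z} : Set G))} (h : HypB z' t' a₁ a₂ Q₁ Q₂) (hF : FusT z' t' Q₁ Q₂)
    (hR : Two.RefTri z' t' Q₁ Q₂)
    (hd : ∀ M : Subgroup ↥(centralizer ({z} : Set G)), IsComponent M → Q₁ ≤ M → Q₂ ≤ M → False) : False := by
  have hfin := C.fin
  obtain ⟨p, hpt, hp₁, hp₂⟩ := h.swap
  -- components `M₁ ≥ Q₁`, `M₂ ≥ Q₂`
  obtain ⟨M₁, M₂, hM₁, hM₂, h1, h2⟩ : ∃ M₁ M₂ : Subgroup ↥(centralizer ({z} : Set G)), IsComponent M₁ ∧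
      IsComponent M₂ ∧ Q₁ ≤ M₁ ∧ Q₂ ≤ M₂ := by
    obtain ⟨M, hM, hQ | hQ⟩ := h.exists_comp
    · exact ⟨M, cj p M, hM, Cfsg.Agent.Cit.Comp.isComponent_cj hM p, hQ, le_cj h.s₁ h.s₂ hp₁ hQ⟩
    · exact ⟨cj p M, M, Cfsg.Agent.Cit.Comp.isComponent_cj hM p, hM, le_cj h.s₂ h.s₁ hp₂ hQ, hQ⟩
  by_cases hne : M₁ = M₂
  · subst hne
    exact hd M₁ hM₁ h1 h2
  · exact false_of_CA hGW C hz hz' (Two.Pr.main ⟨hM₁, hM₂, hne, h1, h2⟩ h hF hR)

/-- **NI with `B`** -/
theorem noComp (hGW : SylowSp4.Hyps.GW.{u}) (I : Intr2.{u}) (hS : CaseM.IntrSign.{u}) (C : Ctx G)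
    (hcy : ∀ K : Subgroup G, Std0 G K → PRankLE 2 1 ↥(centralizer (K : Set G)) → Cyc K)
    {z : G} (hz : orderOf z = 2) {z' t' a₁ a₂ : ↥(centralizer ({z} : Set G))} (hz' : (z' : G) = z)
    {Q₁ Q₂ : Subgroup ↥(centralizer ({z} : Set G))} (h : HypB z' t' a₁ a₂ Q₁ Q₂)
    (hf : ∃ q₁ ∈ Q₁, ∃ q₂ ∈ Q₂, q₁ * q₁ = z' ∧ q₂ * q₂ = z' ∧ ∃ g : G, g * z * g⁻¹ = (q₁ : G) * q₂)
    (hF : FusT z' t' Q₁ Q₂) (hR : Two.RefTri z' t' Q₁ Q₂) : False :=
  false_of hGW C hz hz' h hF hR fun _ hM h1 h2 => DirEnd.false_of hGW I hS C hcy hz hz' h hf hM h1 h2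

end Cfsg.Agent.OddHalf.D6.QThree.NIB.End

end
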